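import Groth.Prelude.Def_W4c2azumayainvolQEt
import Mathlib.RingTheory.Ideal.GoingUp
import Mathlib.RingTheory.IntegralClosure.IntegrallyClosed
import Mathlib.RingTheory.Unramified.Field
import Mathlib.RingTheory.LocalRing.Quotient
import Mathlib.RingTheory.LocalRing.Module
import Mathlib.RingTheory.Kaehler.Basic
import Mathlib.RingTheory.Jacobson.Ideal
import Mathlib.RingTheory.TensorProduct.Basic
import Mathlib.LinearAlgebra.TensorProduct.RightExactness
import Mathlib.RingTheory.Flat.Basic
import Mathlib.Tactic.LinearCombination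

/-!
# Commutative rings with an involution and their fixed rings
-/

set_option autoImplicit false

open scoped TensorProduct

namespace Groth.Agent.RInvLib

universe u v w

variable {S : Type u} {R : Type v} [CommRing S] [CommRing R] [Algebra S R]
variable {lam : R ≃+* R} (hlam : Function.Involutive lam) (hS : RInv.IsFixedRing S R lam)

include hS in
theorem lam_algebraMap (s : S) : lam (algebraMap S R s) = algebraMap S R s := (hS.2 _).2 ⟨s, rfl⟩

include hS in
theorem exists_fixed {r : R} (h : lam r = r) : ∃ s, algebraMap S R s = r := (hS.2 r).1 h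

include hlam hS in
theorem exists_add_lam (r : R) : ∃ s, algebraMap S R s = r + lam r :=
  exists_fixed hS (by rw [map_add, hlam, add_comm])

include hlam hS in
theorem exists_mul_lam (r : R) : ∃ s, algebraMap S R s = r * lam r :=
  exists_fixed hS (by rw [map_mul, hlam, mul_comm])

include hlam in
theorem lam_sub_lam (r : R) : lam (r - lam r) = -(r - lam r) := by rw [map_sub, hlam, neg_sub]

include hlam hS in
theorem isIntegral : Algebra.IsIntegral S R := ⟨fun r => by
  obtain ⟨a, ha⟩ := exists_add_lam hlam hS r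
  obtain ⟨b, hb⟩ := exists_mul_lam hlam hS r
  refine ⟨Polynomial.X ^ 2 - Polynomial.C a * Polynomial.X + Polynomial.C b, by monicity!, ?_⟩
  simp [ha, hb]
  ring⟩

/-- The involution as an `S`-algebra automorphism. -/
def toAlg (lam : R ≃+* R) (hS : RInv.IsFixedRing S R lam) : R ≃ₐ[S] R :=
  AlgEquiv.ofRingEquiv (f := lam) (lam_algebraMap hS)

theorem toAlg_apply (r : R) : toAlg lam hS r = lam r := rfl

include hS in
theorem isUnit_of_isUnit_algebraMap {s : S} (h : IsUnit (algebraMap S R s)) : IsUnit s := by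
  obtain ⟨u, hu⟩ := h
  have h1 : lam ↑u⁻¹ = (↑u⁻¹ : R) := by
    have h2 : lam ↑u⁻¹ * ↑u = 1 := by
      rw [hu, ← lam_algebraMap hS s, ← map_mul, ← hu, Units.inv_mul, map_one]
    calc lam ↑u⁻¹ = lam ↑u⁻¹ * ↑u * ↑u⁻¹ := by rw [mul_assoc, Units.mul_inv, mul_one]
      _ = ↑u⁻¹ := by rw [h2, one_mul]
  obtain ⟨t, ht⟩ := exists_fixed hS h1
  exact IsUnit.of_mul_eq_one t (hS.1 (by rw [map_mul, ht, ← hu, Units.mul_inv, map_one]))

/-! ### Primes -/

include hlam hS in
theorem eq_or_eq_comap {q q' : Ideal R} [hq : q.IsPrime] [hq' : q'.IsPrime]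
    (h : q'.comap (algebraMap S R) = q.comap (algebraMap S R)) :
    q' = q ∨ q' = q.comap lam.toRingHom := by
  haveI := isIntegral hlam hS
  have hsub : (q' : Set R) ⊆ q ∪ q.comap lam.toRingHom := fun x hx => by
    obtain ⟨b, hb⟩ := exists_mul_lam hlam hS x
    have h1 : b ∈ q'.comap (algebraMap S R) := by
      rw [Ideal.mem_comap, hb]; exact q'.mul_mem_right _ hx
    rw [h, Ideal.mem_comap, hb] at h1
    exact hq.mem_or_mem h1
  have key : ∀ J : Ideal R, q' ≤ J → J.comap (algebraMap S R) = q.comap (algebraMap S R) → q' = J := by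
    intro J hle hJ
    by_contra hne
    obtain ⟨x, hxJ, hx⟩ := SetLike.exists_of_lt (lt_of_le_of_ne hle hne)
    have := Ideal.comap_lt_comap_of_integral_mem_sdiff hle ⟨hxJ, hx⟩ (Algebra.IsIntegral.isIntegral (R := S) x)
    exact this.ne (h.trans hJ.symm)
  rcases Ideal.subset_union.1 hsub with hc | hc
  · exact Or.inl (key q hc rfl)
  · refine Or.inr (key _ hc (Ideal.ext fun s => ?_))
    simp [Ideal.mem_comap, lam_algebraMap hS s]

include hlam hS in
theorem comap_maximal [IsLocalRing S] (q : Ideal R) [q.IsMaximal] :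
    q.comap (algebraMap S R) = IsLocalRing.maximalIdeal S := by
  haveI := isIntegral hlam hS
  exact IsLocalRing.eq_maximalIdeal (Ideal.isMaximal_comap_of_isIntegral_of_isMaximal q)

include hlam hS in
theorem maximal_eq_or [IsLocalRing S] (q q' : Ideal R) [q.IsMaximal] [q'.IsMaximal] :
    q' = q ∨ q' = q.comap lam.toRingHom :=
  eq_or_eq_comap hlam hS (by rw [comap_maximal hlam hS q, comap_maximal hlam hS q'])

include hlam hS in
/-- An element which is sent by `lam` to an associate is a unit as soon as it avoids one maximal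
ideal. -/
theorem isUnit_of_notMem [IsLocalRing S] (q : Ideal R) [q.IsMaximal] {d c : R}
    (hd : lam d = c * d) (h : d ∉ q) : IsUnit d := by
  by_contra hu
  obtain ⟨q', hq', hmem⟩ := exists_max_ideal_of_mem_nonunits (mem_nonunits_iff.2 hu)
  rcases maximal_eq_or hlam hS q q' with rfl | rfl
  · exact h hmem
  · refine h ?_
    have h1 : lam d ∈ q := hmem
    have h2 : d = lam c * lam d := by rw [← map_mul, ← hd, hlam]
    rw [h2]
    exact q.mul_mem_left _ h1

theorem mem_of_forall {r : R} (h : r ∈ Ring.jacobson R) (q : Ideal R) [hq : q.IsMaximal] : r ∈ q := by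
  rw [← Ideal.jacobson_bot] at h
  exact (Ideal.mem_sInf.1 h) ⟨bot_le, hq⟩

theorem exists_notMem_of_notMem_jacobson {r : R} (h : r ∉ Ring.jacobson R) :
    ∃ q : Ideal R, q.IsMaximal ∧ r ∉ q := by
  rw [← Ideal.jacobson_bot] at h
  by_contra hc
  push Not at hc
  exact h (Ideal.mem_sInf.2 fun I hI => hc I hI.2)

include hlam hS in
theorem exists_isUnit_sub [IsLocalRing S] (h : ∃ r : R, lam r - r ∉ Ring.jacobson R) :
    ∃ r : R, IsUnit (r - lam r) := by
  obtain ⟨r, hr⟩ := h
  obtain ⟨q, hq, hrq⟩ := exists_notMem_of_notMem_jacobson hr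
  refine ⟨r, isUnit_of_notMem hlam hS q (c := -1) (by rw [lam_sub_lam hlam, neg_one_mul]) fun h => hrq ?_⟩
  rw [← neg_sub]
  exact q.neg_mem h

include hlam hS in
theorem isLocalRing_of_trivial [IsLocalRing S] (h : ∀ r : R, lam r - r ∈ Ring.jacobson R) :
    IsLocalRing R := by
  haveI : Nontrivial R := hS.1.nontrivial
  obtain ⟨q, hq⟩ := Ideal.exists_maximal R
  refine IsLocalRing.of_unique_max_ideal ⟨q, hq, fun q' hq' => ?_⟩
  haveI := hq
  haveI : q'.IsMaximal := hq'
  rcases maximal_eq_or hlam hS q q' with h' | h'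
  · exact h'
  · refine hq'.eq_of_le hq.ne_top fun x hx => ?_
    rw [h'] at hx
    have h1 : lam x ∈ q := hx
    simpa using q.sub_mem h1 (mem_of_forall (h x) q)

/-! ### The quadratic étale criterion -/

include hlam hS in
theorem isQuadEtale_of_isUnit_sub {r : R} (h : IsUnit (r - lam r)) : RInv.IsQuadEtale S R := by
  obtain ⟨u, hu⟩ := h
  have hlu : lam (u : R) = -(u : R) := by rw [hu, lam_sub_lam hlam]
  let f : (Fin 2 → S) →ₗ[S] R := Fintype.linearCombination S ![(1 : R), r]
  have hf : ∀ a, f a = algebraMap S R (a 0) + algebraMap S R (a 1) * r := fun a => by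
    simp [f, Fintype.linearCombination_apply, Fin.sum_univ_two, Algebra.smul_def]
  have hbij : Function.Bijective f := by
    refine ⟨(injective_iff_map_eq_zero f).2 fun a ha => ?_, fun x => ?_⟩
    · rw [hf] at ha
      have h1 := congrArg lam ha
      rw [map_add, map_mul, map_zero, lam_algebraMap hS, lam_algebraMap hS] at h1
      have h2 : algebraMap S R (a 1) * (r - lam r) = 0 := by linear_combination ha - h1
      rw [← hu, Units.mul_left_eq_zero] at h2
      rw [h2, zero_mul, add_zero] at ha
      funext i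
      fin_cases i
      · exact hS.1 (ha.trans (map_zero _).symm)
      · exact hS.1 (h2.trans (map_zero _).symm)
    · have hinv : lam (↑u⁻¹ : R) = -↑u⁻¹ := by
        have h1 : lam (↑u⁻¹ : R) * lam (u : R) = 1 := by rw [← map_mul, Units.inv_mul, map_one]
        rw [hlu] at h1
        calc lam (↑u⁻¹ : R) = -(lam (↑u⁻¹ : R) * -(u : R)) * ↑u⁻¹ := by
              rw [mul_neg, neg_neg, mul_assoc, Units.mul_inv, mul_one]
          _ = -↑u⁻¹ := by rw [h1, neg_mul, one_mul]
      obtain ⟨b, hb⟩ := exists_fixed hS (r := (x - lam x) * ↑u⁻¹)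
        (by rw [map_mul, hinv, lam_sub_lam hlam, neg_mul_neg])
      have hbu : algebraMap S R b * (r - lam r) = x - lam x := by
        rw [hb, ← hu, mul_assoc, Units.inv_mul, mul_one]
      obtain ⟨a, ha⟩ := exists_fixed hS (r := x - algebraMap S R b * r) (by
        rw [map_sub, map_mul, lam_algebraMap hS]
        linear_combination hbu)
      exact ⟨![a, b], by rw [hf]; simp [ha]⟩
  let e : (Fin 2 → S) ≃ₗ[S] R := LinearEquiv.ofBijective f hbij
  haveI := Module.Finite.equiv e
  haveI := Module.Free.of_equiv e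
  refine ⟨inferInstance, inferInstance, ⟨?_⟩, fun p => ?_⟩
  · refine subsingleton_of_forall_eq 0 fun x => ?_
    have hx : x ∈ Submodule.span R (Set.range (KaehlerDifferential.D S R)) :=
      KaehlerDifferential.span_range_derivation S R ▸ Submodule.mem_top
    obtain ⟨t, ht⟩ := exists_add_lam hlam hS r
    obtain ⟨n, hn⟩ := exists_mul_lam hlam hS r
    have h1 : r * r + algebraMap S R n = algebraMap S R t * r := by rw [ht, hn]; ring
    have h2 := congrArg (KaehlerDifferential.D S R) h1
    rw [map_add, Derivation.map_algebraMap, add_zero, Derivation.leibniz, Derivation.leibniz,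
      Derivation.map_algebraMap, smul_zero, add_zero, ← add_smul, ← sub_eq_zero, ← sub_smul,
      show r + r - algebraMap S R t = (u : R) by rw [ht, hu]; ring] at h2
    have hr0 : KaehlerDifferential.D S R r = 0 := by
      simpa [smul_smul] using congrArg ((↑u⁻¹ : R) • ·) h2
    induction hx using Submodule.span_induction with
    | mem y hy =>
      obtain ⟨z, rfl⟩ := hy
      obtain ⟨a, rfl⟩ := hbij.2 z
      rw [hf, map_add, Derivation.leibniz, Derivation.map_algebraMap, Derivation.map_algebraMap, hr0,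
        smul_zero, smul_zero, add_zero, zero_add]
    | zero => rfl
    | add y z _ _ hy hz => rw [hy, hz, add_zero]
    | smul c y _ hy => rw [hy, smul_zero]
  · haveI : Nontrivial S := ⟨⟨0, 1, fun h => p.2.ne_top ((Ideal.eq_top_iff_one _).2 (h ▸ p.1.zero_mem))⟩⟩
    rw [Module.rankAtStalk_eq_finrank_of_free, Pi.natCast_apply, ← e.finrank_eq]
    simp

theorem finrank_eq_two [IsLocalRing S] (hq : RInv.IsQuadEtale S R) : Module.finrank S R = 2 := by
  obtain ⟨_, _, _, h⟩ := hq
  haveI := Module.free_of_flat_of_isLocalRing (R := S) (P := R)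
  have h1 := h ⟨IsLocalRing.maximalIdeal S, inferInstance⟩
  rwa [Module.rankAtStalk_eq_finrank_of_free, Pi.natCast_apply] at h1

/-- The fibre of a quadratic étale algebra over the closed point of a local ring. -/
theorem fibre_props [IsLocalRing S] (hq : RInv.IsQuadEtale S R) :
    Module.Finite (S ⧸ IsLocalRing.maximalIdeal S) (R ⧸ (IsLocalRing.maximalIdeal S).map (algebraMap S R)) ∧
      Algebra.FormallyUnramified (S ⧸ IsLocalRing.maximalIdeal S)
        (R ⧸ (IsLocalRing.maximalIdeal S).map (algebraMap S R)) ∧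
      Module.finrank (S ⧸ IsLocalRing.maximalIdeal S)
        (R ⧸ (IsLocalRing.maximalIdeal S).map (algebraMap S R)) = 2 := by
  have h2 := finrank_eq_two hq
  obtain ⟨_, _, _, -⟩ := hq
  haveI := Module.free_of_flat_of_isLocalRing (R := S) (P := R)
  refine ⟨Module.Finite.of_restrictScalars_finite S _ _, ?_, ?_⟩
  · exact Algebra.FormallyUnramified.of_restrictScalars S (S ⧸ IsLocalRing.maximalIdeal S) _
  · rw [IsLocalRing.finrank_quotient_map, h2]

theorem isReduced_fibre [IsLocalRing S] (hq : RInv.IsQuadEtale S R) :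
    IsReduced (R ⧸ (IsLocalRing.maximalIdeal S).map (algebraMap S R)) := by
  letI := Ideal.Quotient.field (IsLocalRing.maximalIdeal S)
  obtain ⟨_, _, -⟩ := fibre_props hq
  exact Algebra.FormallyUnramified.isReduced_of_field (S ⧸ IsLocalRing.maximalIdeal S) _

theorem jacobson_eq_map [IsLocalRing S] (hq : RInv.IsQuadEtale S R) :
    Ring.jacobson R = (IsLocalRing.maximalIdeal S).map (algebraMap S R) := by
  letI := Ideal.Quotient.field (IsLocalRing.maximalIdeal S)
  haveI := isReduced_fibre hq
  obtain ⟨_, -, -⟩ := fibre_props hq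
  obtain ⟨_, -⟩ := hq
  haveI : IsArtinianRing (R ⧸ (IsLocalRing.maximalIdeal S).map (algebraMap S R)) :=
    IsArtinianRing.of_finite (S ⧸ IsLocalRing.maximalIdeal S) _
  refine le_antisymm (fun x hx => ?_) ?_
  · rw [← Ideal.Quotient.eq_zero_iff_mem]
    refine eq_zero_of_forall_mem_maximal fun M hM => ?_
    haveI : (M.comap (Ideal.Quotient.mk ((IsLocalRing.maximalIdeal S).map (algebraMap S R)))).IsMaximal :=
      Ideal.comap_isMaximal_of_surjective _ Ideal.Quotient.mk_surjective
    exact mem_of_forall hx (M.comap (Ideal.Quotient.mk _))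
  · rw [← Ideal.jacobson_bot]
    refine le_sInf fun M hM => Ideal.map_le_iff_le_comap.2 ?_
    haveI := hM.2
    exact (IsLocalRing.eq_maximalIdeal (Ideal.isMaximal_comap_of_isIntegral_of_isMaximal (R := S) M)).ge
where
  eq_zero_of_forall_mem_maximal {A : Type v} [CommRing A] [IsArtinianRing A] [IsReduced A] {y : A}
      (h : ∀ M : Ideal A, M.IsMaximal → y ∈ M) : y = 0 :=
    (IsArtinianRing.equivPi A).injective (funext fun M => by
      rw [IsArtinianRing.equivPi_apply, map_zero]
      exact Ideal.Quotient.eq_zero_iff_mem.2 (h _ M.isMaximal))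

include hlam hS in
theorem not_isQuadEtale_of_trivial [IsLocalRing S] (h : ∀ r : R, lam r - r ∈ Ring.jacobson R) :
    ¬ RInv.IsQuadEtale S R := fun hq => by
  letI := Ideal.Quotient.field (IsLocalRing.maximalIdeal S)
  haveI := isLocalRing_of_trivial hlam hS h
  obtain ⟨hfin, hur, h2⟩ := fibre_props hq
  have hjac := jacobson_eq_map hq
  set J := (IsLocalRing.maximalIdeal S).map (algebraMap S R) with hJ
  haveI hmax : J.IsMaximal := by
    rw [← hjac, IsLocalRing.ringJacobson_eq_maximalIdeal]; exact IsLocalRing.maximalIdeal.isMaximal R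
  letI := Ideal.Quotient.field J
  haveI : Algebra.IsSeparable (S ⧸ IsLocalRing.maximalIdeal S) (R ⧸ J) :=
    Algebra.FormallyUnramified.isSeparable _ _
  obtain ⟨α, hα⟩ : ∃ α : R ⧸ J, α ∉ Set.range (algebraMap (S ⧸ IsLocalRing.maximalIdeal S) (R ⧸ J)) := by
    by_contra hc
    push Not at hc
    have h1 : (⊤ : Subalgebra (S ⧸ IsLocalRing.maximalIdeal S) (R ⧸ J)) = ⊥ :=
      eq_bot_iff.2 fun x _ => Algebra.mem_bot.2 (hc x)
    exact absurd ((Subalgebra.bot_eq_top_iff_finrank_eq_one.1 h1.symm).symm.trans h2) (by norm_num)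
  obtain ⟨r, rfl⟩ := Ideal.Quotient.mk_surjective α
  have hlr : Ideal.Quotient.mk J (lam r) = Ideal.Quotient.mk J r :=
    Ideal.Quotient.eq.2 (hjac ▸ h r)
  obtain ⟨t, ht⟩ := exists_add_lam hlam hS r
  obtain ⟨n, hn⟩ := exists_mul_lam hlam hS r
  have hmap : ∀ s : S, algebraMap (S ⧸ IsLocalRing.maximalIdeal S) (R ⧸ J) (Ideal.Quotient.mk _ s) =
      Ideal.Quotient.mk J (algebraMap S R s) := fun s => rfl
  by_cases htwo : (2 : S ⧸ IsLocalRing.maximalIdeal S) = 0
  · have hsep := Algebra.IsSeparable.isSeparable (S ⧸ IsLocalRing.maximalIdeal S) (Ideal.Quotient.mk J r)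
    have hint : IsIntegral (S ⧸ IsLocalRing.maximalIdeal S) (Ideal.Quotient.mk J r) := IsIntegral.of_finite _ _
    let P : Polynomial (S ⧸ IsLocalRing.maximalIdeal S) :=
      Polynomial.X ^ 2 - Polynomial.C (Ideal.Quotient.mk (IsLocalRing.maximalIdeal S) n)
    have haev : Polynomial.aeval (Ideal.Quotient.mk J r) P = 0 := by
      simp only [P, map_sub, map_pow, Polynomial.aeval_X, Polynomial.aeval_C]
      rw [hmap, hn, map_mul, hlr, pow_two, sub_self]
    have hdvd := minpoly.dvd (S ⧸ IsLocalRing.maximalIdeal S) (Ideal.Quotient.mk J r) haev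
    have hdeg := (minpoly.two_le_natDegree_iff hint).2 fun hmem => hα hmem
    have hPd : P.natDegree = 2 := Polynomial.natDegree_X_pow_sub_C
    have heq : minpoly (S ⧸ IsLocalRing.maximalIdeal S) (Ideal.Quotient.mk J r) = P :=
      (Polynomial.eq_of_monic_of_dvd_of_natDegree_le (minpoly.monic hint)
        (Polynomial.monic_X_pow_sub_C _ two_ne_zero) hdvd (hPd.trans_le hdeg)).symm
    have hd0 : Polynomial.derivative P = 0 := by
      simp [P, one_add_one_eq_two, htwo]
    have hsepP : P.Separable := heq ▸ hsep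
    rw [Polynomial.separable_def, hd0, isCoprime_zero_right] at hsepP
    exact absurd (hPd.symm.trans (Polynomial.natDegree_eq_zero_of_isUnit hsepP)) two_ne_zero
  · refine hα ⟨Ideal.Quotient.mk _ t * (2 : S ⧸ IsLocalRing.maximalIdeal S)⁻¹, ?_⟩
    have h3 : algebraMap (S ⧸ IsLocalRing.maximalIdeal S) (R ⧸ J) (Ideal.Quotient.mk _ t) =
        algebraMap _ _ (2 : S ⧸ IsLocalRing.maximalIdeal S) * Ideal.Quotient.mk J r := by
      rw [hmap, ht, map_add, hlr, map_ofNat, two_mul]
    rw [map_mul, h3, mul_comm (algebraMap _ (R ⧸ J) (2 : S ⧸ IsLocalRing.maximalIdeal S)), mul_assoc, ← map_mul,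
      mul_inv_cancel₀ htwo, map_one, mul_one]

include hlam hS in
theorem exists_isUnit_sub_of_isQuadEtale [IsLocalRing S] (hq : RInv.IsQuadEtale S R) :
    ∃ r : R, IsUnit (r - lam r) := by
  refine exists_isUnit_sub hlam hS ?_
  by_contra hc
  push Not at hc
  exact not_isQuadEtale_of_trivial hlam hS hc hq

include hlam hS in
/-- Hilbert 90 for a local fixed ring. -/
theorem exists_eq_inv_mul_lam [IsLocalRing S] (hu : ∃ x : R, IsUnit (x - lam x)) (r : Rˣ)
    (hr : lam r * r = 1) : ∃ a : Rˣ, (r : R) = (a⁻¹ : Rˣ) * lam a := by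
  haveI : Nontrivial R := hS.1.nontrivial
  obtain ⟨q, hq⟩ := Ideal.exists_maximal R
  haveI := hq
  suffices H : ∃ c, c + lam r * lam c ∉ q by
    obtain ⟨c, hc⟩ := H
    have hla : lam (c + lam r * lam c) = r * (c + lam r * lam c) := by
      rw [map_add, map_mul, hlam, hlam, mul_add, ← mul_assoc, mul_comm (r : R) (lam r), hr, one_mul, add_comm]
    refine ⟨(isUnit_of_notMem hlam hS q hla hc).unit, ?_⟩
    rw [IsUnit.unit_spec, hla, ← mul_assoc, mul_comm _ (r : R), mul_assoc, IsUnit.val_inv_mul, mul_one]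
  obtain ⟨x, hx⟩ := hu
  by_contra hc
  push Not at hc
  have h1 := hc 1
  rw [map_one, mul_one] at h1
  have h2 : x + lam r * lam x - lam x * (1 + lam r) ∈ q := q.sub_mem (hc x) (q.mul_mem_left _ h1)
  rw [show x + lam r * lam x - lam x * (1 + lam r) = x - lam x by ring] at h2
  exact hq.ne_top (q.eq_top_of_isUnit_mem h2 hx)

include hlam hS in
theorem jacobson_sq_le [IsLocalRing S] (h2 : IsUnit (2 : S)) :
    (Ring.jacobson R) ^ 2 ≤ (IsLocalRing.maximalIdeal S).map (algebraMap S R) := by
  by_cases h : ∀ r : R, lam r - r ∈ Ring.jacobson R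
  · haveI := isLocalRing_of_trivial hlam hS h
    haveI := isIntegral hlam hS
    have hmem : ∀ s : S, algebraMap S R s ∈ IsLocalRing.maximalIdeal R → s ∈ IsLocalRing.maximalIdeal S :=
      fun s hs => by rwa [← comap_maximal hlam hS (IsLocalRing.maximalIdeal R)]
    obtain ⟨w, hw⟩ := h2.exists_left_inv
    have hw' : algebraMap S R w * 2 = 1 := by rw [← map_ofNat (algebraMap S R) 2, ← map_mul, hw, map_one]
    have hdec : ∀ a ∈ IsLocalRing.maximalIdeal R, ∃ d, lam d = -d ∧ d ∈ IsLocalRing.maximalIdeal R ∧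
        a - d ∈ (IsLocalRing.maximalIdeal S).map (algebraMap S R) := fun a ha => by
      have hla : lam a ∈ IsLocalRing.maximalIdeal R := by
        have := mem_of_forall (h a) (IsLocalRing.maximalIdeal R)
        simpa using add_mem this ha
      refine ⟨algebraMap S R w * (a - lam a), by rw [map_mul, lam_algebraMap hS, lam_sub_lam hlam, mul_neg],
        Ideal.mul_mem_left _ _ (sub_mem ha hla), ?_⟩
      obtain ⟨s, hs⟩ := exists_add_lam hlam hS a
      have hss : algebraMap S R (w * s) = a - algebraMap S R w * (a - lam a) := by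
        rw [map_mul, hs]; linear_combination a * hw'
      rw [← hss]
      exact Ideal.mem_map_of_mem _ (Ideal.mul_mem_left _ _ (hmem _ (hs ▸ add_mem ha hla)))
    rw [pow_two, Ideal.mul_le, IsLocalRing.ringJacobson_eq_maximalIdeal]
    intro a ha b hb
    obtain ⟨d, hd, hd', had⟩ := hdec a ha
    obtain ⟨e, he, he', hbe⟩ := hdec b hb
    obtain ⟨s, hs⟩ := exists_fixed hS (r := d * e) (by rw [map_mul, hd, he, neg_mul_neg])
    have h1 : algebraMap S R s ∈ (IsLocalRing.maximalIdeal S).map (algebraMap S R) :=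
      Ideal.mem_map_of_mem _ (hmem _ (hs ▸ Ideal.mul_mem_left _ _ he'))
    rw [show a * b = (a - d) * b + d * (b - e) + d * e by ring, ← hs]
    exact add_mem (add_mem (Ideal.mul_mem_right _ _ had) (Ideal.mul_mem_left _ _ hbe)) h1
  · push Not at h
    obtain ⟨r, hr⟩ := exists_isUnit_sub hlam hS h
    rw [← jacobson_eq_map (isQuadEtale_of_isUnit_sub hlam hS hr)]
    exact Ideal.pow_le_self two_ne_zero

/-! ### Base change -/

theorem isFixedRing_baseChange {lam : R ≃ₐ[S] R} (hlam : Function.Involutive lam)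
    (hS : RInv.IsFixedRing S R lam.toRingEquiv) (S' : Type w) [CommRing S'] [Algebra S S']
    (h : Module.Flat S S' ∨ IsUnit (2 : S)) :
    RInv.IsFixedRing S' (S' ⊗[S] R)
      (Algebra.TensorProduct.congr (AlgEquiv.refl : S' ≃ₐ[S'] S') lam).toRingEquiv := by
  set i : S →ₗ[S] R := Algebra.linearMap S R
  set g : R →ₗ[S] R := lam.toLinearMap - LinearMap.id
  have hg : ∀ x, LinearMap.lTensor S' g x =
      Algebra.TensorProduct.congr (AlgEquiv.refl : S' ≃ₐ[S'] S') lam x - x := fun x => by
    induction x using TensorProduct.induction_on with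
    | zero => simp
    | tmul a r => simp [g, TensorProduct.tmul_sub]
    | add x y hx hy => rw [map_add, map_add, hx, hy]; abel
  have hi : ∀ s', LinearMap.lTensor S' i (s' ⊗ₜ[S] (1 : S)) = algebraMap S' (S' ⊗[S] R) s' := fun s' => by
    simp [i, Algebra.TensorProduct.algebraMap_apply]
  have hrange : ∀ z : S' ⊗[S] S, ∃ s', z = s' ⊗ₜ[S] (1 : S) := fun z =>
    ⟨TensorProduct.rid S S' z, ((TensorProduct.rid S S').symm_apply_apply z).symm⟩
  have key : Function.Injective (LinearMap.lTensor S' i) ∧
      ∀ x, LinearMap.lTensor S' g x = 0 → x ∈ Set.range (LinearMap.lTensor S' i) := by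
    rcases h with h | h
    · refine ⟨Module.Flat.lTensor_preserves_injective_linearMap i hS.1, fun x hx => ?_⟩
      have hex : Function.Exact i g := fun r => by
        simp only [g, LinearMap.sub_apply, AlgEquiv.toLinearMap_apply, LinearMap.id_apply, sub_eq_zero]
        exact hS.2 r
      exact (Module.Flat.lTensor_exact S' hex x).1 hx
    · obtain ⟨w, hw⟩ := h.exists_left_inv
      obtain ⟨p, hp⟩ : ∃ p : R →ₗ[S] S, ∀ r, i (p r) = w • (r + lam r) := by
        choose f hf using fun r => exists_fixed hS (r := w • (r + lam r))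
          (show lam (w • (r + lam r)) = w • (r + lam r) by rw [map_smul, map_add, hlam, add_comm])
        exact ⟨{ toFun := f
                 map_add' := fun a b => hS.1 (by
                   rw [map_add, hf, hf, hf, map_add, ← smul_add]; congr 1; abel)
                 map_smul' := fun c a => hS.1 (by
                   rw [RingHom.id_apply, smul_eq_mul, map_mul, hf, hf, map_smul, ← Algebra.smul_def,
                     smul_comm c w, smul_add c]) }, hf⟩
      have hpi : p ∘ₗ i = LinearMap.id := LinearMap.ext fun s => hS.1 (by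
        have := hp (i s)
        simp only [LinearMap.comp_apply, LinearMap.id_apply, i, Algebra.linearMap_apply, AlgEquiv.commutes] at this ⊢
        rw [this, ← two_smul S, smul_smul, hw, one_smul])
      refine ⟨Function.LeftInverse.injective (g := LinearMap.lTensor S' p) fun z => ?_, fun x hx => ?_⟩
      · rw [← LinearMap.comp_apply, ← LinearMap.lTensor_comp, hpi, LinearMap.lTensor_id, LinearMap.id_apply]
      · refine ⟨LinearMap.lTensor S' p x, ?_⟩
        have h1 : i ∘ₗ p = LinearMap.id + w • g := LinearMap.ext fun r => by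
          simp only [LinearMap.comp_apply, hp, LinearMap.add_apply, LinearMap.id_apply, LinearMap.smul_apply,
            g, LinearMap.sub_apply, AlgEquiv.toLinearMap_apply]
          have h2 : r = w • (2 : S) • r := by rw [smul_smul, hw, one_smul]
          conv_rhs => enter [1]; rw [h2]
          rw [← smul_add, two_smul]; congr 1; abel
        rw [← LinearMap.comp_apply, ← LinearMap.lTensor_comp, h1, LinearMap.lTensor_add, LinearMap.lTensor_id,
          LinearMap.lTensor_smul, LinearMap.add_apply, LinearMap.smul_apply, hx, smul_zero, add_zero,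
          LinearMap.id_apply]
  refine ⟨fun a b hab => ?_, fun x => ⟨fun hx => ?_, ?_⟩⟩
  · have := key.1 ((hi a).trans (hab.trans (hi b).symm))
    simpa using congrArg (TensorProduct.rid S S') this
  · obtain ⟨z, hz⟩ := key.2 x (by rw [hg, sub_eq_zero]; exact hx)
    obtain ⟨s', rfl⟩ := hrange z
    exact ⟨s', (hi s').symm.trans hz⟩
  · rintro ⟨s', rfl⟩
    exact (Algebra.TensorProduct.congr (AlgEquiv.refl : S' ≃ₐ[S'] S') lam).commutes s'

/-- The base changed involution. -/
noncomputable def bcInv (lam : R ≃+* R) (hS : RInv.IsFixedRing S R lam) (S' : Type w) [CommRing S'] [Algebra S S'] :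
    S' ⊗[S] R ≃+* S' ⊗[S] R :=
  (Algebra.TensorProduct.congr (AlgEquiv.refl : S' ≃ₐ[S'] S') (toAlg lam hS)).toRingEquiv

theorem bcInv_tmul (S' : Type w) [CommRing S'] [Algebra S S'] (s : S') (r : R) :
    bcInv lam hS S' (s ⊗ₜ[S] r) = s ⊗ₜ[S] lam r := rfl

include hlam in
theorem bcInv_involutive (S' : Type w) [CommRing S'] [Algebra S S'] :
    Function.Involutive (bcInv lam hS S') := fun x => by
  induction x using TensorProduct.induction_on with
  | zero => simp
  | tmul a r => rw [bcInv_tmul, bcInv_tmul, hlam]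
  | add x y hx hy => rw [map_add, map_add, hx, hy]

include hlam in
theorem isFixedRing_bcInv (S' : Type w) [CommRing S'] [Algebra S S'] (h : Module.Flat S S' ∨ IsUnit (2 : S)) :
    RInv.IsFixedRing S' (S' ⊗[S] R) (bcInv lam hS S') :=
  isFixedRing_baseChange (lam := toAlg lam hS) hlam hS S' h

include hlam hS in
/-- `p` is not a branch point iff some `(r - lam r) * lam (r - lam r)` avoids `p`. -/
theorem isQuadEtale_atPrime_iff (p : PrimeSpectrum S) :
    RInv.IsQuadEtale (Localization.AtPrime p.asIdeal) (Localization.AtPrime p.asIdeal ⊗[S] R) ↔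
      ∃ (r : R) (s : S), s ∉ p.asIdeal ∧ algebraMap S R s = (r - lam r) * lam (r - lam r) := by
  haveI hflat : Module.Flat S (Localization.AtPrime p.asIdeal) :=
    IsLocalization.flat (Localization.AtPrime p.asIdeal) p.asIdeal.primeCompl
  have hS' := isFixedRing_bcInv hlam hS (Localization.AtPrime p.asIdeal) (Or.inl hflat)
  have hlam' := bcInv_involutive hlam hS (Localization.AtPrime p.asIdeal)
  have hmap : ∀ s : S, ((1 : Localization.AtPrime p.asIdeal) ⊗ₜ[S] algebraMap S R s) =
      algebraMap (Localization.AtPrime p.asIdeal) _ (algebraMap S (Localization.AtPrime p.asIdeal) s) := fun s => by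
    rw [Algebra.TensorProduct.algebraMap_apply, Algebra.algebraMap_self, RingHom.id_apply,
      Algebra.algebraMap_eq_smul_one s, Algebra.algebraMap_eq_smul_one s, ← TensorProduct.smul_tmul]
  constructor
  · intro hq
    obtain ⟨y, hy⟩ := exists_isUnit_sub_of_isQuadEtale hlam' hS' hq
    obtain ⟨c, r, hr⟩ : ∃ (c : Localization.AtPrime p.asIdeal) (r : R), y = c ⊗ₜ[S] r := by
      clear hy
      induction y using TensorProduct.induction_on with
      | zero => exact ⟨0, 0, (TensorProduct.zero_tmul _ _).symm⟩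
      | tmul a r => exact ⟨a, r, rfl⟩
      | add x y hx hy =>
        obtain ⟨c, r, rfl⟩ := hx
        obtain ⟨d, r', rfl⟩ := hy
        obtain ⟨⟨a, σ⟩, hc⟩ := IsLocalization.surj p.asIdeal.primeCompl c
        obtain ⟨⟨b, τ⟩, hd⟩ := IsLocalization.surj p.asIdeal.primeCompl d
        have hu := IsLocalization.map_units (Localization.AtPrime p.asIdeal) (σ * τ)
        refine ⟨↑hu.unit⁻¹, (a * τ) • r + (b * σ) • r', ?_⟩
        have e1 : c = (a * (τ : S)) • (↑hu.unit⁻¹ : Localization.AtPrime p.asIdeal) := by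
          rw [Algebra.smul_def, map_mul, ← hc, mul_assoc c, ← map_mul, ← Submonoid.coe_mul, mul_assoc,
            IsUnit.mul_val_inv, mul_one]
        have e2 : d = (b * (σ : S)) • (↑hu.unit⁻¹ : Localization.AtPrime p.asIdeal) := by
          rw [Algebra.smul_def, map_mul, ← hd, mul_assoc d, ← map_mul, mul_comm (τ : S),
            ← Submonoid.coe_mul, mul_assoc, IsUnit.mul_val_inv, mul_one]
        conv_lhs => rw [e1, e2, TensorProduct.smul_tmul, TensorProduct.smul_tmul]
        rw [TensorProduct.tmul_add]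
    rw [hr, bcInv_tmul, ← TensorProduct.tmul_sub, ← mul_one c, ← one_mul (r - lam r),
      ← Algebra.TensorProduct.tmul_mul_tmul, IsUnit.mul_iff] at hy
    obtain ⟨s, hs⟩ := exists_mul_lam hlam hS (r - lam r)
    refine ⟨r, s, fun hsp => ?_, hs⟩
    have h1 : IsUnit ((1 : Localization.AtPrime p.asIdeal) ⊗ₜ[S] algebraMap S R s) := by
      have h2 := hy.2.mul (hy.2.map (bcInv lam hS (Localization.AtPrime p.asIdeal)))
      rwa [bcInv_tmul, Algebra.TensorProduct.tmul_mul_tmul, one_mul, ← hs] at h2
    rw [hmap] at h1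
    have h3 := isUnit_of_isUnit_algebraMap hS' h1
    rw [IsLocalization.AtPrime.isUnit_to_map_iff (Localization.AtPrime p.asIdeal) p.asIdeal] at h3
    exact h3 hsp
  · rintro ⟨r, s, hsp, hs⟩
    refine isQuadEtale_of_isUnit_sub hlam' hS' (r := 1 ⊗ₜ r) ?_
    rw [bcInv_tmul, ← TensorProduct.tmul_sub]
    refine isUnit_of_mul_isUnit_left (y := (1 : Localization.AtPrime p.asIdeal) ⊗ₜ[S] lam (r - lam r)) ?_
    rw [Algebra.TensorProduct.tmul_mul_tmul, one_mul, ← hs, hmap]
    exact ((IsLocalization.AtPrime.isUnit_to_map_iff (Localization.AtPrime p.asIdeal) p.asIdeal s).2 hsp).map _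

end Groth.Agent.RInvLib
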