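import Groth.Agent.RInvLib.Basic
import Mathlib.LinearAlgebra.Matrix.SchurComplement
import Mathlib.LinearAlgebra.Matrix.Transvection
import Mathlib.GroupTheory.Perm.Cycle.Type
import Mathlib.Algebra.Group.Pi.Units

/-!
# Hermitian matrices over rings with involution with local fixed ring
-/

set_option autoImplicit false

namespace Groth.Agent.RInvLib

universe v w

open Matrix

variable {A : Type v} [CommRing A] (lam : A ≃+* A)

/-- The `lam`-transpose. -/
def ct {m n : Type*} (v : Matrix m n A) : Matrix n m A := (v.map lam).transpose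

theorem ct_apply {m n : Type*} (v : Matrix m n A) (i : n) (j : m) : ct lam v i j = lam (v j i) := rfl

theorem ct_mul {l m n : Type*} [Fintype m] (v : Matrix l m A) (w : Matrix m n A) :
    ct lam (v * w) = ct lam w * ct lam v := by
  rw [ct, Matrix.map_mul, Matrix.transpose_mul]; rfl

theorem ct_neg {m n : Type*} (v : Matrix m n A) : ct lam (-v) = -ct lam v := by
  ext i j; simp [ct_apply]

theorem ct_add {m n : Type*} (v w : Matrix m n A) : ct lam (v + w) = ct lam v + ct lam w := by
  ext i j; simp [ct_apply]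

theorem ct_smul {m n : Type*} (c : A) (v : Matrix m n A) : ct lam (c • v) = lam c • ct lam v := by
  ext i j; simp [ct_apply]

theorem ct_one {n : Type*} [DecidableEq n] : ct lam (1 : Matrix n n A) = 1 := by
  rw [ct, Matrix.map_one _ (map_zero lam) (map_one lam), Matrix.transpose_one]

theorem ct_diagonal {n : Type*} [DecidableEq n] (d : n → A) :
    ct lam (Matrix.diagonal d) = Matrix.diagonal fun i => lam (d i) := by
  rw [ct, Matrix.diagonal_map (map_zero lam), Matrix.diagonal_transpose]

theorem ct_fromBlocks {l m n o : Type*} (a : Matrix n l A) (b : Matrix n m A) (c : Matrix o l A)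
    (d : Matrix o m A) :
    ct lam (fromBlocks a b c d) = fromBlocks (ct lam a) (ct lam c) (ct lam b) (ct lam d) := by
  rw [ct, fromBlocks_map, fromBlocks_transpose]; rfl

theorem ct_submatrix {m n m' n' : Type*} (v : Matrix m n A) (f : m' → m) (g : n' → n) :
    ct lam (v.submatrix f g) = (ct lam v).submatrix g f := rfl

theorem isUnit_ct {n : Type*} [Fintype n] [DecidableEq n] {v : Matrix n n A} (h : IsUnit v) :
    IsUnit (ct lam v) := by
  obtain ⟨w, hw⟩ := h.exists_right_inv
  obtain ⟨w', hw'⟩ := h.exists_left_inv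
  exact ⟨⟨ct lam v, ct lam w', by rw [← ct_mul, hw', ct_one], by
    rw [show w' = w from left_inv_eq_right_inv hw' hw, ← ct_mul, hw, ct_one]⟩, rfl⟩

/-- Congruence of square matrices. -/
def Cong {n : Type*} [Fintype n] [DecidableEq n] (h h' : Matrix n n A) : Prop :=
  ∃ v : Matrix n n A, IsUnit v ∧ ct lam v * h * v = h'

variable {n : Type*} [Fintype n] [DecidableEq n]

theorem Cong.refl (h : Matrix n n A) : Cong lam h h := ⟨1, isUnit_one, by rw [ct_one, one_mul, mul_one]⟩

theorem Cong.trans {h h' h'' : Matrix n n A} (e : Cong lam h h') (e' : Cong lam h' h'') : Cong lam h h'' := by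
  obtain ⟨v, hv, rfl⟩ := e
  obtain ⟨w, hw, rfl⟩ := e'
  exact ⟨v * w, hv.mul hw, by rw [ct_mul]; simp only [mul_assoc]⟩

theorem Cong.isUnit {h h' : Matrix n n A} (e : Cong lam h h') (hh : IsUnit h) : IsUnit h' := by
  obtain ⟨v, hv, rfl⟩ := e
  exact ((isUnit_ct lam hv).mul hh).mul hv

theorem Cong.reindex {m : Type*} [Fintype m] [DecidableEq m] (e : m ≃ n) {h h' : Matrix n n A}
    (c : Cong lam h h') : Cong lam (h.submatrix e e) (h'.submatrix e e) := by
  obtain ⟨v, hv, rfl⟩ := c
  refine ⟨v.submatrix e e, (Matrix.isUnit_submatrix_equiv e e).2 hv, ?_⟩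
  rw [ct_submatrix, Matrix.submatrix_mul_equiv, Matrix.submatrix_mul_equiv]

variable {lam} (hlam : Function.Involutive lam)

include hlam in
theorem ct_ct {m : Type*} (v : Matrix m n A) : ct lam (ct lam v) = v := by
  ext i j; simp [ct_apply, hlam _]

include hlam in
theorem Cong.herm {ε : A} {h h' : Matrix n n A} (c : Cong lam h h') (herm : ε • ct lam h = h) :
    ε • ct lam h' = h' := by
  obtain ⟨v, -, rfl⟩ := c
  rw [ct_mul, ct_mul, ct_ct hlam, ← mul_smul_comm, ← smul_mul_assoc, herm, mul_assoc]

include hlam in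
/-- Orthogonal complement of a nondegenerate block. -/
theorem cong_fromBlocks {l : Type*} [Fintype l] [DecidableEq l] {ε : A}
    {a : Matrix l l A} {b : Matrix l n A} {c : Matrix n l A} {d : Matrix n n A}
    (herm : ε • ct lam (fromBlocks a b c d) = fromBlocks a b c d) (a' : Matrix l l A) (ha : a * a' = 1) :
    Cong lam (fromBlocks a b c d) (fromBlocks a 0 0 (d - c * a' * b)) := by
  have ha' : a' * a = 1 := mul_eq_one_comm.1 ha
  rw [ct_fromBlocks, fromBlocks_smul, fromBlocks_inj] at herm
  obtain ⟨h1, h2, h3, -⟩ := herm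
  refine ⟨fromBlocks 1 (-(a' * b)) 0 1, ?_, ?_⟩
  · rw [Matrix.isUnit_iff_isUnit_det, det_fromBlocks_zero₂₁, det_one, det_one, one_mul]
    exact isUnit_one
  · have hz : -ct lam (a' * b) * a + c = 0 := by
      have : ct lam (a' * b) * a = c := by
        conv_lhs => rw [← h1, Matrix.mul_smul, ← ct_mul, ← Matrix.mul_assoc, ha, Matrix.one_mul, h3]
      rw [Matrix.neg_mul, this, neg_add_cancel]
    rw [ct_fromBlocks, fromBlocks_multiply, fromBlocks_multiply, ct_one, ct_one, ct_neg,
      show ct lam (0 : Matrix n l A) = 0 by ext i j; simp [ct_apply]]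
    simp only [Matrix.one_mul, Matrix.zero_mul, add_zero, Matrix.mul_one, Matrix.mul_zero, hz, zero_add]
    congr 1
    · rw [Matrix.mul_neg, ← Matrix.mul_assoc, ha, Matrix.one_mul, neg_add_cancel]
    · rw [Matrix.neg_mul, show ct lam (a' * b) * b = c * a' * b from ?_, neg_add_eq_sub]
      have : ct lam (a' * b) = c * a' := by
        calc ct lam (a' * b) = ct lam (a' * b) * (a * a') := by rw [ha, Matrix.mul_one]
          _ = (ct lam (a' * b) * a) * a' := (Matrix.mul_assoc _ _ _).symm
          _ = c * a' := by rw [Matrix.neg_mul, neg_add_eq_zero] at hz; rw [hz]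
      rw [this]

omit hlam

theorem cong_fromBlocks_right {l : Type*} [Fintype l] [DecidableEq l] {a : Matrix l l A} {d d' : Matrix n n A}
    (c : Cong lam d d') : Cong lam (fromBlocks a 0 0 d) (fromBlocks a 0 0 d') := by
  obtain ⟨v, hv, rfl⟩ := c
  refine ⟨fromBlocks 1 0 0 v, ?_, ?_⟩
  · rw [Matrix.isUnit_iff_isUnit_det, det_fromBlocks_zero₂₁, det_one, one_mul]
    exact (Matrix.isUnit_iff_isUnit_det _).1 hv
  · rw [ct_fromBlocks, fromBlocks_multiply, fromBlocks_multiply, ct_one]
    congr 1 <;> simp [show ct lam (0 : Matrix l n A) = 0 by ext i j; simp [ct_apply],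
      show ct lam (0 : Matrix n l A) = 0 by ext i j; simp [ct_apply]]

/-- An alternating matrix of odd size has determinant zero. -/
theorem det_alternating_odd {K : Type*} [CommRing K] (M : Matrix n n K) (hn : Odd (Fintype.card n))
    (h0 : ∀ i, M i i = 0) (hs : ∀ i j, M j i = -M i j) : M.det = 0 := by
  haveI : Fact (Nat.Prime 2) := ⟨Nat.prime_two⟩
  rw [Matrix.det_apply]
  refine Finset.sum_involution (fun σ _ => σ⁻¹) (fun σ _ => ?_) (fun σ _ hne hfix => hne ?_)
    (fun σ _ => Finset.mem_univ _) (fun σ _ => inv_inv σ)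
  · have h1 : ∏ i, M (σ⁻¹ i) i = -∏ i, M (σ i) i := by
      rw [← Equiv.prod_comp σ (fun i => M (σ⁻¹ i) i)]
      simp only [Equiv.Perm.inv_def, Equiv.symm_apply_apply]
      rw [Finset.prod_congr rfl fun i _ => hs (σ i) i, Finset.prod_neg, Finset.card_univ, hn.neg_one_pow,
        neg_one_mul]
    rw [Equiv.Perm.sign_inv, h1, smul_neg, add_neg_cancel]
  · obtain ⟨i, hi⟩ := Equiv.Perm.exists_fixed_point_of_prime (p := 2) (n := 1) (σ := σ)
      (fun h => Nat.not_even_iff_odd.2 hn (even_iff_two_dvd.2 h)) (by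
        rw [pow_one, pow_two]
        conv_lhs => arg 1; rw [← hfix]
        exact inv_mul_cancel σ)
    rw [Finset.prod_eq_zero (Finset.mem_univ i) (by rw [hi]; exact h0 i), smul_zero]

theorem cong_transvection (h : Matrix n n A) {i j : n} (hij : i ≠ j) (c : A) :
    ∃ h', Cong lam h h' ∧
      h' j j = h j j + c * h j i + lam c * h i j + lam c * c * h i i ∧
      ∀ k, k ≠ j → h' j k = h j k + lam c * h i k ∧ h' k j = h k j + h k i * c ∧ h' k k = h k k := by
  have hct : ct lam (Matrix.transvection i j c) = Matrix.transvection j i (lam c) := by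
    rw [Matrix.transvection, Matrix.transvection, ct_add, ct_one]
    congr 1
    ext a b
    simp only [ct_apply, Matrix.single_apply, apply_ite lam, map_zero]
    exact if_congr and_comm rfl rfl
  refine ⟨_, ⟨Matrix.transvection i j c, ?_, rfl⟩, ?_, fun k hk => ⟨?_, ?_, ?_⟩⟩
  · rw [Matrix.isUnit_iff_isUnit_det, Matrix.det_transvection_of_ne i j hij]; exact isUnit_one
  · rw [hct, Matrix.mul_transvection_apply_same, Matrix.transvection_mul_apply_same,
      Matrix.transvection_mul_apply_same]
    ring
  · rw [hct, Matrix.mul_transvection_apply_of_ne _ _ _ _ hk, Matrix.transvection_mul_apply_same]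
  · rw [hct, Matrix.mul_transvection_apply_same, Matrix.transvection_mul_apply_of_ne _ _ _ _ hk,
      Matrix.transvection_mul_apply_of_ne _ _ _ _ hk, mul_comm c]
  · rw [hct, Matrix.mul_transvection_apply_of_ne _ _ _ _ hk, Matrix.transvection_mul_apply_of_ne _ _ _ _ hk]

theorem exists_notMem_row {h : Matrix n n A} (hh : IsUnit h) (q : Ideal A) (hq : q ≠ ⊤) (i : n) :
    ∃ j, h i j ∉ q := by
  by_contra hc
  push Not at hc
  obtain ⟨g, hg⟩ := hh.exists_right_inv
  refine hq ((Ideal.eq_top_iff_one q).2 ?_)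
  have h1 := congrArg (fun M => M i i) hg
  simp only [Matrix.mul_apply, Matrix.one_apply_eq] at h1
  rw [← h1]
  exact Ideal.sum_mem _ fun j _ => q.mul_mem_right _ (hc j)

section Local

variable (q : Ideal A) [hq : q.IsMaximal]
variable (loc : ∀ d c : A, lam d = c * d → d ∉ q → IsUnit d)
variable {ε : A} (hε : ε * ε = 1) (hlε : lam ε = ε)

omit [Fintype n] [DecidableEq n] in
include hε hlε in
theorem lam_diag {h : Matrix n n A} (herm : ε • ct lam h = h) (i : n) : lam (h i i) = ε * h i i := by
  have h1 : ε * lam (h i i) = h i i := congrArg (fun M => M i i) herm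
  calc lam (h i i) = ε * ε * lam (h i i) := by rw [hε, one_mul]
    _ = ε * h i i := by rw [mul_assoc, h1]

variable (hcase : (∃ a : A, lam a - a ∉ q) ∨ ε + 1 ∉ q)

include hlam hq hε hcase in
/-- In the non-alternating case there is always a congruent matrix with a unit on the diagonal. -/
theorem exists_cong_diag_notMem [Nonempty n] {h : Matrix n n A} (hh : IsUnit h) (herm : ε • ct lam h = h) :
    ∃ h', Cong lam h h' ∧ ∃ i, h' i i ∉ q := by
  classical
  by_cases hd : ∃ i, h i i ∉ q
  · exact ⟨h, Cong.refl lam h, hd⟩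
  push Not at hd
  obtain ⟨j⟩ := ‹Nonempty n›
  obtain ⟨i, hi⟩ := exists_notMem_row hh q hq.ne_top j
  have hji : h i j = ε * lam (h j i) := (congrArg (fun M => M i j) herm).symm
  have hij : i ≠ j := fun e => hi (e ▸ hd j)
  have key : ∃ c, c * h j i + lam c * h i j ∉ q := by
    by_contra hc
    push Not at hc
    have hc' : ∀ c, c * h j i + ε * lam (c * h j i) ∈ q := fun c => by
      have := hc c
      rwa [hji, show lam c * (ε * lam (h j i)) = ε * lam (c * h j i) by rw [map_mul lam c]; ring] at this
    have hlq : ∀ x ∈ q, lam x ∈ q := fun x hx => by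
      have h1 := hc' (lam x)
      rw [map_mul, hlam] at h1
      have h2 := q.sub_mem h1 (q.mul_mem_left ε (q.mul_mem_right (lam (h j i)) hx))
      rw [add_sub_cancel_right] at h2
      exact (hq.isPrime.mem_or_mem h2).resolve_right hi
    have hz : ∀ z : A, z + ε * lam z ∈ q := fun z => by
      obtain ⟨y, w, hw, hy⟩ := hq.exists_inv hi
      have e : z = z * y * h j i + z * w := by linear_combination -z * hy
      have hzw : z * w ∈ q := q.mul_mem_left _ hw
      rw [e, map_add, mul_add, add_add_add_comm]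
      exact add_mem (hc' (z * y)) (add_mem hzw (q.mul_mem_left ε (hlq _ hzw)))
    rcases hcase with ⟨a, ha⟩ | he
    · refine ha ?_
      have h1 := q.sub_mem (hz a) (q.mul_mem_left a (hz 1))
      rw [map_one, mul_one] at h1
      have h2 := q.mul_mem_left ε h1
      convert h2 using 1
      linear_combination (a - lam a) * hε
    · exact he (by simpa [add_comm] using hz 1)
  obtain ⟨c, hc⟩ := key
  obtain ⟨h', hcong, hjj, -⟩ := cong_transvection (lam := lam) h hij c
  refine ⟨h', hcong, j, fun hm => hc ?_⟩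
  rw [hjj] at hm
  have := q.sub_mem (q.sub_mem hm (hd j)) (q.mul_mem_left (lam c * c) (hd i))
  convert this using 1
  ring

omit hcase

/-- The shape of the goal. -/
def Diagonalizable (lam : A ≃+* A) (h : Matrix n n A) : Prop := ∃ d, Cong lam h (Matrix.diagonal d)

theorem Diagonalizable.of_cong {h h' : Matrix n n A} (c : Cong lam h h') (d : Diagonalizable lam h') :
    Diagonalizable lam h := d.imp fun _ e => c.trans lam e

theorem Diagonalizable.reindex {m : Type*} [Fintype m] [DecidableEq m] (e : m ≃ n) {h : Matrix n n A}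
    (d : Diagonalizable lam h) : Diagonalizable lam (h.submatrix e e) := by
  obtain ⟨d, c⟩ := d
  exact ⟨d ∘ e, by rw [← Matrix.submatrix_diagonal_equiv]; exact Cong.reindex lam e c⟩

include hlam hq loc hε hlε in
/-- Splitting off a unit on the diagonal. -/
theorem exists_split {m : ℕ} {h : Matrix (Fin (m + 1)) (Fin (m + 1)) A} (hh : IsUnit h)
    (herm : ε • ct lam h = h) (i : Fin (m + 1)) (hi : h i i ∉ q) :
    ∃ (e : Fin (m + 1) ≃ Fin 1 ⊕ Fin m) (a : A) (d : Matrix (Fin m) (Fin m) A), IsUnit a ∧ a = h i i ∧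
      e i = Sum.inl 0 ∧ IsUnit d ∧ ε • ct lam d = d ∧
      Cong lam (h.submatrix e.symm e.symm) (fromBlocks (Matrix.diagonal fun _ => a) 0 0 d) ∧
      ∀ k : Fin m, d k k = h (e.symm (Sum.inr k)) (e.symm (Sum.inr k)) -
        h (e.symm (Sum.inr k)) i * Ring.inverse a * h i (e.symm (Sum.inr k)) := by
  let e : Fin (m + 1) ≃ Fin 1 ⊕ Fin m :=
    (Equiv.swap i 0).trans ((finCongr (Nat.add_comm m 1)).trans finSumFinEquiv.symm)
  have hei : e i = Sum.inl 0 := by
    simp only [e, Equiv.trans_apply, Equiv.swap_apply_left]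
    rw [Equiv.symm_apply_eq]
    rfl
  have hes : e.symm (Sum.inl 0) = i := by rw [← hei, Equiv.symm_apply_apply]
  have hu : IsUnit (h i i) := loc _ ε (lam_diag hε hlε herm i) hi
  set h2 := h.submatrix e.symm e.symm with hh2
  have ha : h2.toBlocks₁₁ = Matrix.diagonal fun _ => h i i := by
    ext a b
    rw [Subsingleton.elim b a, Subsingleton.elim a 0, Matrix.diagonal_apply_eq]
    simp [Matrix.toBlocks₁₁, h2, hes]
  have herm2 : ε • ct lam h2 = h2 := by
    rw [hh2, ct_submatrix]
    exact congrArg (fun M : Matrix (Fin (m + 1)) (Fin (m + 1)) A => M.submatrix e.symm e.symm) herm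
  have c := cong_fromBlocks hlam (ε := ε) (a := h2.toBlocks₁₁) (b := h2.toBlocks₁₂) (c := h2.toBlocks₂₁)
    (d := h2.toBlocks₂₂) (by rw [fromBlocks_toBlocks]; exact herm2)
    (Matrix.diagonal fun _ => Ring.inverse (h i i)) (by
      rw [ha, Matrix.diagonal_mul_diagonal]
      simp [Ring.mul_inverse_cancel _ hu])
  rw [fromBlocks_toBlocks, ha] at c
  refine ⟨e, h i i, _, hu, rfl, hei, ?_, ?_, c, fun k => ?_⟩
  · have h3 := c.isUnit lam ((Matrix.isUnit_submatrix_equiv e.symm e.symm).2 hh)
    rw [Matrix.isUnit_iff_isUnit_det, det_fromBlocks_zero₂₁, IsUnit.mul_iff] at h3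
    exact (Matrix.isUnit_iff_isUnit_det _).2 h3.2
  · have h3 := c.herm hlam herm2
    rw [ct_fromBlocks, fromBlocks_smul, fromBlocks_inj] at h3
    exact h3.2.2.2
  · simp [Matrix.sub_apply, Matrix.mul_apply, Matrix.toBlocks₂₂, Matrix.toBlocks₂₁, Matrix.toBlocks₁₂, h2, hes]

include hlam hq loc hε hlε in
/-- Diagonalisation. -/
theorem diagonalizable_aux : ∀ (m : ℕ) (h : Matrix (Fin m) (Fin m) A), IsUnit h → ε • ct lam h = h →
    (((∃ a : A, lam a - a ∉ q) ∨ ε + 1 ∉ q) ∨ m = 0 ∨ ∃ i, h i i ∉ q) → Diagonalizable lam h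
  | 0, h, _, _, _ => ⟨fun i => i.elim0, 1, isUnit_one, Subsingleton.elim _ _⟩
  | m + 1, h, hh, herm, hgood => by
    classical
    by_cases hA : (∃ a : A, lam a - a ∉ q) ∨ ε + 1 ∉ q
    · obtain ⟨h', hc, i, hi⟩ := exists_cong_diag_notMem hlam q hε hA hh herm
      obtain ⟨e, a, d, -, -, -, hd, hdh, hcd, -⟩ :=
        exists_split hlam q loc hε hlε (hc.isUnit lam hh) (hc.herm hlam herm) i hi
      obtain ⟨dd, hdd⟩ := diagonalizable_aux m d hd hdh (Or.inl hA)
      refine Diagonalizable.of_cong hc ?_
      have := Diagonalizable.reindex e (h := h'.submatrix e.symm e.symm)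
        ⟨Sum.elim (fun _ => a) dd, hcd.trans lam (by
          rw [← Matrix.fromBlocks_diagonal]; exact cong_fromBlocks_right hdd)⟩
      simpa using this
    · push Not at hA
      obtain ⟨i, hi⟩ := (hgood.resolve_left (fun h1 => h1.elim (fun ⟨a, ha⟩ => ha (hA.1 a)) fun h2 => h2 hA.2)).resolve_left
        (Nat.succ_ne_zero m)
      obtain ⟨e, a, d, hau, hai, hei, hd, hdh, hcd, hdk⟩ := exists_split hlam q loc hε hlε hh herm i hi
      by_cases hgd : m = 0 ∨ ∃ k, d k k ∉ q
      · obtain ⟨dd, hdd⟩ := diagonalizable_aux m d hd hdh (Or.inr hgd)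
        have := Diagonalizable.reindex e (h := h.submatrix e.symm e.symm)
          ⟨Sum.elim (fun _ => a) dd, hcd.trans lam (by
            rw [← Matrix.fromBlocks_diagonal]; exact cong_fromBlocks_right hdd)⟩
        simpa using this
      · push Not at hgd
        obtain ⟨hm, hgd⟩ := hgd
        haveI : NeZero m := ⟨hm⟩
        obtain ⟨k, hk⟩ := exists_notMem_row hd q hq.ne_top (0 : Fin m)
        set g := (fromBlocks (Matrix.diagonal fun _ : Fin 1 => a) 0 0 d).submatrix e e with hg
        have hcg : Cong lam h g := by simpa [hg] using Cong.reindex lam e hcd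
        have hne : e.symm (Sum.inr (0 : Fin m)) ≠ i := by
          rw [ne_eq, Equiv.symm_apply_eq, hei]; exact Sum.inr_ne_inl
        obtain ⟨g', hcg', hjj, hrest⟩ := cong_transvection (lam := lam) g hne 1
        have hnk : e.symm (Sum.inr k) ≠ i := by
          rw [ne_eq, Equiv.symm_apply_eq, hei]; exact Sum.inr_ne_inl
        have hgi : g' i i ∉ q := by
          intro hm'
          rw [hjj] at hm'
          simp [hg, hei] at hm'
          have := q.sub_mem hm' (hgd 0)
          simp [hai] at this
          exact hi this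
        obtain ⟨e', a', d', hau', hai', hei', hd', hdh', hcd', hdk'⟩ :=
          exists_split hlam q loc hε hlε ((hcg.trans lam hcg').isUnit lam hh)
            ((hcg.trans lam hcg').herm hlam herm) i hgi
        obtain ⟨k', hk'⟩ : ∃ k', e'.symm (Sum.inr k') = e.symm (Sum.inr k) := by
          rcases he : e' (e.symm (Sum.inr k)) with x | x
          · exact absurd (by rw [← e'.injective.eq_iff, he, hei', Subsingleton.elim x 0]) hnk
          · exact ⟨x, by rw [← he, Equiv.symm_apply_apply]⟩
        have hgd' : d' k' k' ∉ q := by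
          intro hm'
          obtain ⟨h1, h2, h3⟩ := hrest _ hnk
          rw [hdk', hk', h1, h2, h3] at hm'
          simp [hg, hei] at hm'
          have h4 := q.sub_mem (hgd k) hm'
          rw [sub_sub_cancel] at h4
          rcases hq.isPrime.mem_or_mem h4 with h5 | h5
          · rcases hq.isPrime.mem_or_mem h5 with h6 | h6
            · have h7 : ε * lam (d 0 k) = d k 0 := congrArg (fun M => M k 0) hdh
              rw [← h7] at h6
              have h8 := q.mul_mem_left ε h6
              rw [← mul_assoc, hε, one_mul] at h8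
              exact hk (by simpa using q.sub_mem h8 (hA.1 (d 0 k)))
            · exact hq.ne_top (q.eq_top_of_isUnit_mem h6 hau'.ringInverse)
          · exact hk h5
        obtain ⟨dd, hdd⟩ := diagonalizable_aux m d' hd' hdh' (Or.inr (Or.inr ⟨k', hgd'⟩))
        refine Diagonalizable.of_cong (hcg.trans lam hcg') ?_
        have := Diagonalizable.reindex e' (h := g'.submatrix e'.symm e'.symm)
          ⟨Sum.elim (fun _ => a') dd, hcd'.trans lam (by
            rw [← Matrix.fromBlocks_diagonal]; exact cong_fromBlocks_right hdd)⟩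
        simpa using this

omit loc hlε

/-- The model `2 × 2` alternating matrix. -/
def J₂ : Matrix (Fin 2) (Fin 2) A := Matrix.of ![![0, 1], ![-1, 0]]

include hlam hq in
/-- Symplectic reduction. -/
theorem exists_symplectic [IsLocalRing A] (hid : ∀ a, lam a - a ∈ q) (h2 : IsUnit (2 : A)) :
    ∀ (n : ℕ) (h : Matrix (Fin n) (Fin n) A), IsUnit h → -ct lam h = h →
    ∃ (k : ℕ) (e : Fin k × Fin 2 ≃ Fin n) (h' : Matrix (Fin n) (Fin n) A), Cong lam h h' ∧
      (∀ x y, x.1 ≠ y.1 → h' (e x) (e y) = 0) ∧ ∀ x a b, h' (e (x, a)) (e (x, b)) - J₂ a b ∈ q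
  | n, h, hh, herm => by
    classical
    have hqm : q = IsLocalRing.maximalIdeal A := IsLocalRing.eq_maximalIdeal hq
    have hdiag : ∀ i, h i i ∈ q := fun i => by
      have h1 : -lam (h i i) = h i i := congrArg (fun M => M i i) herm
      have h3 : (2 : A) * h i i ∈ q := by
        have := q.neg_mem (hid (h i i))
        rw [show -(lam (h i i) - h i i) = 2 * h i i by linear_combination h1] at this
        exact this
      exact (hq.isPrime.mem_or_mem h3).resolve_left fun h4 => hq.ne_top (q.eq_top_of_isUnit_mem h4 h2)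
    match n, h, hh, herm, hdiag with
    | 0, h, hh, herm, _ => exact ⟨0, Equiv.equivOfIsEmpty _ _, h, Cong.refl lam h, fun x => x.1.elim0, fun x => x.elim0⟩
    | 1, h, hh, herm, hdiag =>
      obtain ⟨j, hj⟩ := exists_notMem_row hh q hq.ne_top (0 : Fin 1)
      exact absurd (by rw [Subsingleton.elim j 0]; exact hdiag 0) hj
    | n + 2, h, hh, herm, hdiag =>
      obtain ⟨j, hj⟩ := exists_notMem_row hh q hq.ne_top (0 : Fin (n + 2))
      have hj0 : j ≠ 0 := fun e => hj (e ▸ hdiag 0)
      have hju : IsUnit (h 0 j) := IsLocalRing.notMem_maximalIdeal.1 (hqm ▸ hj)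
      obtain ⟨e₀, he₀⟩ : ∃ e₀ : Fin 2 ⊕ Fin n ≃ Fin (n + 2), e₀ (Sum.inl 0) = 0 ∧ e₀ (Sum.inl 1) = j := by
        refine ⟨(finSumFinEquiv.trans (finCongr (Nat.add_comm 2 n))).trans (Equiv.swap 1 j), ?_, ?_⟩
        · have h01 : (0 : Fin (n + 2)) ≠ 1 := by simp [Fin.ext_iff]
          rw [Equiv.trans_apply, show (finSumFinEquiv.trans (finCongr (Nat.add_comm 2 n))) (Sum.inl 0) = 0 from rfl,
            Equiv.swap_apply_of_ne_of_ne h01 hj0.symm]
        · rw [Equiv.trans_apply, show (finSumFinEquiv.trans (finCongr (Nat.add_comm 2 n))) (Sum.inl 1) = 1 from rfl,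
            Equiv.swap_apply_left]
      set g0 := h.submatrix e₀ e₀ with hg0
      let D : Fin 2 ⊕ Fin n → A := Sum.elim ![1, ↑hju.unit⁻¹] (fun _ => 1)
      set g := ct lam (Matrix.diagonal D) * g0 * Matrix.diagonal D with hg
      have hcg : Cong lam g0 g := by
        refine ⟨Matrix.diagonal D, Matrix.isUnit_diagonal.2 (Pi.isUnit_iff.2 fun x => ?_), rfl⟩
        rcases x with x | x
        · fin_cases x
          · exact isUnit_one
          · exact Units.isUnit _
        · exact isUnit_one
      have hge : ∀ x y, g x y = lam (D x) * g0 x y * D y := fun x y => by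
        rw [hg, ct_diagonal, Matrix.mul_diagonal, Matrix.diagonal_mul]
      have herm0 : (-1 : A) • ct lam g0 = g0 := by
        rw [neg_one_smul, hg0, ct_submatrix]
        exact congrArg (fun M : Matrix (Fin (n + 2)) (Fin (n + 2)) A => M.submatrix e₀ e₀) herm
      have hermg := hcg.herm hlam herm0
      have h01 : g (Sum.inl 0) (Sum.inl 1) = 1 := by simp [hge, D, hg0, he₀.1, he₀.2]
      have h10 : g (Sum.inl 1) (Sum.inl 0) = -1 := by
        have := congrArg (fun M => M (Sum.inl 1) (Sum.inl 0)) hermg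
        simp [ct_apply, h01] at this
        exact this.symm
      have hblock : ∀ a b, g.toBlocks₁₁ a b - J₂ a b ∈ q := fun a b => by
        fin_cases a <;> fin_cases b
        · simpa [Matrix.toBlocks₁₁, J₂, hge, hg0, D, he₀.1] using hdiag 0
        · simp [Matrix.toBlocks₁₁, J₂, h01]
        · simp [Matrix.toBlocks₁₁, J₂, h10]
        · simpa [Matrix.toBlocks₁₁, J₂, hge, hg0, D, he₀.2] using
            q.mul_mem_right (↑hju.unit⁻¹ : A) (q.mul_mem_left (lam (↑hju.unit⁻¹ : A)) (hdiag j))
      have hdet : IsUnit g.toBlocks₁₁ := by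
        rw [Matrix.isUnit_iff_isUnit_det, ← IsLocalRing.notMem_maximalIdeal, ← hqm, Matrix.det_fin_two]
        intro hm
        have e00 := hblock 0 0
        have e01 := hblock 0 1
        have e10 := hblock 1 0
        simp [J₂] at e00
        simp [Matrix.toBlocks₁₁, h01, h10] at hm e00
        have := q.sub_mem hm (q.mul_mem_right (g (Sum.inl 1) (Sum.inl 1)) e00)
        simp at this
        exact hq.ne_top ((Ideal.eq_top_iff_one q).2 this)
      obtain ⟨a', ha'⟩ := hdet.exists_right_inv
      have c := cong_fromBlocks hlam (ε := (-1 : A)) (a := g.toBlocks₁₁) (b := g.toBlocks₁₂)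
        (c := g.toBlocks₂₁) (d := g.toBlocks₂₂) (by rw [fromBlocks_toBlocks]; exact hermg) a' ha'
      rw [fromBlocks_toBlocks] at c
      set d := g.toBlocks₂₂ - g.toBlocks₂₁ * a' * g.toBlocks₁₂
      have hd : IsUnit d := by
        have h3 := (hcg.trans lam c).isUnit lam ((Matrix.isUnit_submatrix_equiv e₀ e₀).2 hh)
        rw [Matrix.isUnit_iff_isUnit_det, det_fromBlocks_zero₂₁, IsUnit.mul_iff] at h3
        exact (Matrix.isUnit_iff_isUnit_det _).2 h3.2
      have hdh : -ct lam d = d := by
        have h3 := c.herm hlam hermg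
        rw [ct_fromBlocks, fromBlocks_smul, fromBlocks_inj] at h3
        rw [← neg_one_smul A]
        exact h3.2.2.2
      obtain ⟨k, e, d', hd', hd0, hdJ⟩ := exists_symplectic hid h2 n d hd hdh
      let e₁ : Fin (k + 1) × Fin 2 ≃ Fin 2 ⊕ (Fin k × Fin 2) :=
        { toFun := fun x => Fin.cases (Sum.inl x.2) (fun i => Sum.inr (i, x.2)) x.1
          invFun := Sum.elim (fun a => (0, a)) fun y => (y.1.succ, y.2)
          left_inv := by rintro ⟨x, a⟩; cases x using Fin.cases <;> simp
          right_inv := by rintro (a | ⟨x, a⟩) <;> simp }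
      let ek : Fin (k + 1) × Fin 2 ≃ Fin (n + 2) :=
        e₁.trans ((Equiv.sumCongr (Equiv.refl (Fin 2)) e).trans e₀)
      have hfin : Cong lam h ((fromBlocks g.toBlocks₁₁ 0 0 d').submatrix e₀.symm e₀.symm) := by
        have := Cong.reindex lam e₀.symm ((hcg.trans lam c).trans lam (cong_fromBlocks_right hd'))
        simpa [hg0] using this
      refine ⟨k + 1, ek, _, hfin, fun x y hxy => ?_, fun x a b => ?_⟩
      · obtain ⟨x, a⟩ := x
        obtain ⟨y, b⟩ := y
        cases x using Fin.cases with
        | zero =>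
          cases y using Fin.cases with
          | zero => exact absurd rfl hxy
          | succ y => simp [ek, e₁]
        | succ x =>
          cases y using Fin.cases with
          | zero => simp [ek, e₁]
          | succ y => simpa [ek, e₁] using hd0 (x, a) (y, b) (fun h => hxy (congrArg Fin.succ h))
      · cases x using Fin.cases with
        | zero => simpa [ek, e₁] using hblock a b
        | succ x => simpa [ek, e₁] using hdJ x a b

end Local

end Groth.Agent.RInvLib
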