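import Mathlib

/-!
# Descending congruences of matrices along localizations
-/

set_option autoImplicit false

universe u v w

noncomputable section

namespace Groth.Agent.RInvLib

variable {T : Type u} {T' : Type v} [CommRing T] [CommRing T'] {n : ℕ}

theorem map_smul_ringHom (θ : T →+* T') (a : T) (M : Matrix (Fin n) (Fin n) T) :
    (a • M).map θ = θ a • M.map θ := by
  ext i j
  simp

theorem map_eq_of_smul_sub_eq_zero (θ : T →+* T') {t : T} (ht : IsUnit (θ t)) {M N : Matrix (Fin n) (Fin n) T}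
    (h : t • (M - N) = 0) : M.map θ = N.map θ := by
  ext i j
  have := congrArg θ (congrFun (congrFun h i) j)
  simp only [Matrix.smul_apply, Matrix.sub_apply, smul_eq_mul, map_mul, map_sub, Matrix.zero_apply, map_zero] at this
  exact sub_eq_zero.1 (ht.mul_right_eq_zero.1 this)

variable (θ : T →+* T') (S : Submonoid T)

theorem exists_common_num (hsurj : ∀ w, ∃ x, ∃ s ∈ S, θ s * w = θ x) {ι : Type w} [Fintype ι] (w : ι → T') :
    ∃ E ∈ S, ∃ x : ι → T, ∀ i, θ E * w i = θ (x i) := by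
  classical
  choose x s hs h using fun i => hsurj (w i)
  refine ⟨∏ i, s i, S.prod_mem fun i _ => hs i, fun i => (∏ j ∈ Finset.univ.erase i, s j) * x i, fun i => ?_⟩
  rw [map_mul, ← h i, ← Finset.mul_prod_erase Finset.univ s (Finset.mem_univ i), map_mul]
  ring

theorem exists_common_kill (hkill : ∀ x, θ x = 0 → ∃ s ∈ S, s * x = 0) {ι : Type w} [Fintype ι] (x : ι → T)
    (hx : ∀ i, θ (x i) = 0) : ∃ t ∈ S, ∀ i, t * x i = 0 := by
  classical
  choose s hs h using fun i => hkill (x i) (hx i)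
  refine ⟨∏ i, s i, S.prod_mem fun i _ => hs i, fun i => ?_⟩
  rw [← Finset.mul_prod_erase Finset.univ s (Finset.mem_univ i)]
  linear_combination (∏ j ∈ Finset.univ.erase i, s j) * h i

/-- A congruence over a localization comes from one over the ring, up to the denominators. -/
theorem exists_descended (lT : T →+* T) (lT' : T' →+* T') (hl : ∀ x, θ (lT x) = lT' (θ x))
    (hfix : ∀ s ∈ S, lT s = s) (hsurj : ∀ w, ∃ x, ∃ s ∈ S, θ s * w = θ x)
    (hkill : ∀ x, θ x = 0 → ∃ s ∈ S, s * x = 0) (H H' : Matrix (Fin n) (Fin n) T)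
    {v : Matrix (Fin n) (Fin n) T'} (hv : IsUnit v) (hrel : (v.map lT').transpose * H.map θ * v = H'.map θ) :
    ∃ E ∈ S, ∃ t ∈ S, ∃ V W : Matrix (Fin n) (Fin n) T,
      t • (V * W - (E * E) • (1 : Matrix (Fin n) (Fin n) T)) = 0 ∧
      t • (W * V - (E * E) • (1 : Matrix (Fin n) (Fin n) T)) = 0 ∧
      t • ((V.map lT).transpose * H * V - (E * E) • H') = 0 := by
  classical
  obtain ⟨u, rfl⟩ := hv
  set w : Matrix (Fin n) (Fin n) T' := ((u⁻¹ : (Matrix (Fin n) (Fin n) T')ˣ) : Matrix (Fin n) (Fin n) T') with hw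
  obtain ⟨E, hE, x, hx⟩ := exists_common_num θ S hsurj
    (Sum.elim (fun p : Fin n × Fin n => (u : Matrix (Fin n) (Fin n) T') p.1 p.2) (fun p : Fin n × Fin n => w p.1 p.2))
  let V : Matrix (Fin n) (Fin n) T := Matrix.of fun i j => x (Sum.inl (i, j))
  let W : Matrix (Fin n) (Fin n) T := Matrix.of fun i j => x (Sum.inr (i, j))
  have hV : V.map θ = θ E • (u : Matrix (Fin n) (Fin n) T') := by
    ext i j
    simpa [V] using (hx (Sum.inl (i, j))).symm
  have hW : W.map θ = θ E • w := by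
    ext i j
    simpa [W] using (hx (Sum.inr (i, j))).symm
  have hlV : (V.map lT).map θ = θ E • (u : Matrix (Fin n) (Fin n) T').map lT' := by
    ext i j
    simp only [Matrix.map_apply, hl, Matrix.smul_apply, smul_eq_mul]
    rw [show θ (V i j) = θ E * (u : Matrix (Fin n) (Fin n) T') i j from congrFun (congrFun hV i) j, map_mul,
      ← hl E, hfix E hE]
  let D : Fin 3 → Matrix (Fin n) (Fin n) T := ![V * W - (E * E) • 1, W * V - (E * E) • 1,
    (V.map lT).transpose * H * V - (E * E) • H']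
  have hD : ∀ k, (D k).map θ = 0 := by
    intro k
    fin_cases k
    · dsimp [D]
      rw [Matrix.map_sub θ (map_sub θ), Matrix.map_mul, hV, hW, map_smul_ringHom, Matrix.map_one θ (map_zero θ) (map_one θ),
        smul_mul_smul_comm, hw, Units.mul_inv, map_mul, sub_self]
    · dsimp [D]
      rw [Matrix.map_sub θ (map_sub θ), Matrix.map_mul, hV, hW, map_smul_ringHom, Matrix.map_one θ (map_zero θ) (map_one θ),
        smul_mul_smul_comm, hw, Units.inv_mul, map_mul, sub_self]
    · dsimp [D]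
      rw [Matrix.map_sub θ (map_sub θ), Matrix.map_mul, Matrix.map_mul, Matrix.transpose_map, hlV, hV,
        map_smul_ringHom, Matrix.transpose_smul, smul_mul_assoc, smul_mul_smul_comm, hrel, map_mul, sub_self]
  obtain ⟨t, ht, hzero⟩ := exists_common_kill θ S hkill (fun p : Fin 3 × Fin n × Fin n => D p.1 p.2.1 p.2.2)
    (fun p => congrFun (congrFun (hD p.1) p.2.1) p.2.2)
  have hz : ∀ k, t • D k = 0 := fun k => by
    ext i j
    exact hzero (k, i, j)
  exact ⟨E, hE, t, ht, V, W, hz 0, hz 1, hz 2⟩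

/-- A congruence over the ring up to units becomes one over a ring in which these units are invertible. -/
theorem exists_of_descended (lT : T →+* T) (lT' : T' →+* T') (hl : ∀ x, θ (lT x) = lT' (θ x))
    {E t : T} (hfix : lT E = E) (hE : IsUnit (θ E)) (ht : IsUnit (θ t)) (H H' V W : Matrix (Fin n) (Fin n) T)
    (h1 : t • (V * W - (E * E) • (1 : Matrix (Fin n) (Fin n) T)) = 0)
    (h2 : t • (W * V - (E * E) • (1 : Matrix (Fin n) (Fin n) T)) = 0)
    (h3 : t • ((V.map lT).transpose * H * V - (E * E) • H') = 0) :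
    ∃ v : Matrix (Fin n) (Fin n) T', IsUnit v ∧ (v.map lT').transpose * H.map θ * v = H'.map θ := by
  obtain ⟨e, he⟩ := hE
  have e1 := map_eq_of_smul_sub_eq_zero θ ht h1
  have e2 := map_eq_of_smul_sub_eq_zero θ ht h2
  have e3 := map_eq_of_smul_sub_eq_zero θ ht h3
  rw [Matrix.map_mul, map_smul_ringHom, Matrix.map_one θ (map_zero θ) (map_one θ)] at e1 e2
  rw [Matrix.map_mul, Matrix.map_mul, map_smul_ringHom, Matrix.transpose_map] at e3
  have hee : ((e⁻¹ : T'ˣ) : T') * ((e⁻¹ : T'ˣ) : T') * θ (E * E) = 1 := by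
    rw [map_mul, ← he, mul_mul_mul_comm, Units.inv_mul, one_mul]
  refine ⟨((e⁻¹ : T'ˣ) : T') • V.map θ, ⟨⟨_, ((e⁻¹ : T'ˣ) : T') • W.map θ, ?_, ?_⟩, rfl⟩, ?_⟩
  · rw [smul_mul_smul_comm, e1, smul_smul, hee, one_smul]
  · rw [smul_mul_smul_comm, e2, smul_smul, hee, one_smul]
  · have hl' : lT' ((e⁻¹ : T'ˣ) : T') = ((e⁻¹ : T'ˣ) : T') := by
      have h : lT' (e : T') = e := by rw [he, ← hl, hfix]
      refine e.isUnit.mul_left_cancel ?_
      rw [Units.mul_inv]
      nth_rewrite 1 [← h]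
      rw [← map_mul, Units.mul_inv, map_one]
    have hm : (((e⁻¹ : T'ˣ) : T') • V.map θ).map lT' = ((e⁻¹ : T'ˣ) : T') • (V.map lT).map θ := by
      ext i j
      simp [hl, hl']
    rw [hm, Matrix.transpose_smul, smul_mul_assoc, smul_mul_smul_comm, e3, smul_smul, hee, one_smul]

end Groth.Agent.RInvLib
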