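import Mathlib

/-!
# Spreading out congruences of matrices over a localized algebra of square roots

`Q0 = B[X]/(c X² - a)` is an integral model of `Bₚ[X]/(X² - a/c)`; localizations of the latter are localizations
of `Q0` at submonoids containing the image of `B ∖ p`.
-/

set_option autoImplicit false
set_option synthInstance.maxHeartbeats 400000
set_option maxHeartbeats 1600000
set_option linter.style.haveILetI false

universe u v

open MvPolynomial
open scoped TensorProduct

noncomputable section

namespace Groth.Agent.RInvLib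

variable {B : Type u} [CommRing B] {l : ℕ}

variable {A : Type v} [CommRing A] [Algebra B A] {Q : Type u} [CommRing Q] [Algebra B Q]

/-- Elements of a localization tensored with `A` come from the model. -/
theorem exists_num (S : Submonoid (Q)) (w : Localization S ⊗[B] A) :
    ∃ (x : Q ⊗[B] A) (σ : S), ((algebraMap (Q) (Localization S) σ.1) ⊗ₜ[B] (1 : A)) * w =
      Algebra.TensorProduct.map (IsScalarTower.toAlgHom B (Q) (Localization S)) (AlgHom.id B A) x := by
  induction w using TensorProduct.induction_on with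
  | zero => exact ⟨0, 1, by simp⟩
  | tmul z t =>
    obtain ⟨⟨q, σ⟩, hq⟩ := IsLocalization.surj S z
    refine ⟨q ⊗ₜ t, σ, ?_⟩
    rw [Algebra.TensorProduct.tmul_mul_tmul, one_mul, Algebra.TensorProduct.map_tmul,
      mul_comm (algebraMap _ _ σ.1) z, hq]
    rfl
  | add w w' h h' =>
    obtain ⟨x, σ, e⟩ := h
    obtain ⟨x', σ', e'⟩ := h'
    refine ⟨(σ'.1 ⊗ₜ (1 : A)) * x + (σ.1 ⊗ₜ (1 : A)) * x', σ * σ', ?_⟩
    have hm : (algebraMap (Q) (Localization S) (σ * σ').1) ⊗ₜ[B] (1 : A) =
        ((algebraMap (Q) (Localization S) σ.1) ⊗ₜ[B] (1 : A)) *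
          ((algebraMap (Q) (Localization S) σ'.1) ⊗ₜ[B] (1 : A)) := by
      rw [Algebra.TensorProduct.tmul_mul_tmul, one_mul, Submonoid.coe_mul, map_mul]
    rw [hm, map_add, map_mul, map_mul, Algebra.TensorProduct.map_tmul, Algebra.TensorProduct.map_tmul, ← e, ← e']
    simp only [IsScalarTower.coe_toAlgHom', map_one]
    generalize (algebraMap (Q) (Localization S) σ.1) ⊗ₜ[B] (1 : A) = P
    generalize (algebraMap (Q) (Localization S) σ'.1) ⊗ₜ[B] (1 : A) = P'
    rw [mul_add, mul_assoc, mul_assoc, mul_left_comm P P' w]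

set_option synthInstance.maxHeartbeats 400000 in
set_option maxHeartbeats 1600000 in
/-- What dies in a localization tensored with `A` is killed by the submonoid. -/
theorem exists_kill (S : Submonoid (Q)) (x : Q ⊗[B] A)
    (hx : Algebra.TensorProduct.map (IsScalarTower.toAlgHom B (Q) (Localization S)) (AlgHom.id B A) x = 0) :
    ∃ σ : S, (σ.1 ⊗ₜ[B] (1 : A)) * x = 0 := by
  let ι := TensorProduct.mk (Q) (Localization S) (Q ⊗[B] A) 1
  haveI : IsLocalizedModule S ι :=
    (isLocalizedModule_iff_isBaseChange S (Localization S) ι).2 (TensorProduct.isBaseChange _ _ _)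
  have e : ∀ y, TensorProduct.AlgebraTensorModule.cancelBaseChange B (Q) (Localization S) (Localization S) A
      (ι y) = Algebra.TensorProduct.map (IsScalarTower.toAlgHom B (Q) (Localization S)) (AlgHom.id B A) y := by
    intro y
    induction y using TensorProduct.induction_on with
    | zero => simp
    | tmul q t =>
      simp only [ι, TensorProduct.mk_apply, TensorProduct.AlgebraTensorModule.cancelBaseChange_tmul,
        Algebra.TensorProduct.map_tmul, IsScalarTower.coe_toAlgHom', AlgHom.coe_id, id_eq]
      exact congrArg (fun z => z ⊗ₜ[B] t) (Algebra.algebraMap_eq_smul_one q).symm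
    | add y y' h h' => simp only [map_add, h, h']
  have h0 : ι x = ι 0 := by
    rw [map_zero]
    refine (TensorProduct.AlgebraTensorModule.cancelBaseChange B (Q) (Localization S) (Localization S) A).injective ?_
    rw [e, hx, map_zero]
  obtain ⟨σ, hσ⟩ := (IsLocalizedModule.eq_iff_exists S ι).1 h0
  refine ⟨σ, ?_⟩
  rw [smul_zero] at hσ
  rw [← hσ, Submonoid.smul_def]
  clear hσ hx h0 e
  induction x using TensorProduct.induction_on with
  | zero => simp
  | tmul q t => rw [Algebra.TensorProduct.tmul_mul_tmul, one_mul, TensorProduct.smul_tmul', smul_eq_mul]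
  | add y y' hy hy' => rw [mul_add, hy, hy', smul_add]

/-- The square-root algebra over `R`. -/
abbrev PQ (R : Type u) [CommRing R] (s : Fin l → R) : Type u :=
  MvPolynomial (Fin l) R ⧸ Ideal.span (Set.range fun k : Fin l => MvPolynomial.X k ^ 2 - MvPolynomial.C (s k))

/-- The integral model. -/
abbrev Q0 (c : B) (a : Fin l → B) : Type u :=
  MvPolynomial (Fin l) B ⧸
    Ideal.span (Set.range fun k : Fin l => MvPolynomial.C c * MvPolynomial.X k ^ 2 - MvPolynomial.C (a k))

variable (c : B) (a : Fin l → B)

/-- The model maps to the square-root algebra over any ring in which `s = a/c`. -/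
def toPQ {R : Type u} [CommRing R] [Algebra B R] (s : Fin l → R)
    (hs : ∀ k, algebraMap B R c * s k = algebraMap B R (a k)) : Q0 c a →ₐ[B] PQ R s :=
  Ideal.Quotient.liftₐ _ ((Ideal.Quotient.mkₐ B _).comp (MvPolynomial.mapAlgHom (Algebra.ofId B R))) (by
    intro x hx
    rw [← RingHom.mem_ker]
    refine (Ideal.span_le.2 ?_) hx
    rintro _ ⟨k, rfl⟩
    simp only [SetLike.mem_coe, RingHom.mem_ker, AlgHom.comp_apply, Ideal.Quotient.mkₐ_eq_mk]
    rw [Ideal.Quotient.eq_zero_iff_mem]
    have e : MvPolynomial.mapAlgHom (Algebra.ofId B R) (MvPolynomial.C c * MvPolynomial.X k ^ 2 - MvPolynomial.C (a k)) =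
        MvPolynomial.C (algebraMap B R c) * (MvPolynomial.X k ^ 2 - MvPolynomial.C (s k)) := by
      show MvPolynomial.map (algebraMap B R) _ = _
      simp only [map_sub, map_mul, map_pow, MvPolynomial.map_C, MvPolynomial.map_X]
      rw [← hs k, map_mul]
      ring
    rw [e]
    exact Ideal.mul_mem_left _ _ (Ideal.subset_span ⟨k, rfl⟩))

theorem toPQ_mk {R : Type u} [CommRing R] [Algebra B R] (s : Fin l → R)
    (hs : ∀ k, algebraMap B R c * s k = algebraMap B R (a k)) (q : MvPolynomial (Fin l) B) :
    toPQ c a s hs (Ideal.Quotient.mk _ q) = Ideal.Quotient.mk _ (MvPolynomial.map (algebraMap B R) q) := by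
  rfl

variable (p : Ideal B) [p.IsPrime] (s : Fin l → Localization.AtPrime p)
  (hs : ∀ k, algebraMap B (Localization.AtPrime p) c * s k = algebraMap B (Localization.AtPrime p) (a k))

theorem exists_rep (x : PQ (Localization.AtPrime p) s) :
    ∃ (q : Q0 c a) (m : B), m ∉ p ∧ algebraMap B (PQ (Localization.AtPrime p) s) m * x = toPQ c a s hs q := by
  obtain ⟨P, rfl⟩ := Ideal.Quotient.mk_surjective x
  induction P using MvPolynomial.induction_on with
  | C k =>
    obtain ⟨⟨b, m⟩, hb⟩ := IsLocalization.surj p.primeCompl k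
    refine ⟨Ideal.Quotient.mk _ (MvPolynomial.C b), m.1, m.2, ?_⟩
    rw [toPQ_mk, MvPolynomial.map_C, ← hb, map_mul MvPolynomial.C, map_mul (Ideal.Quotient.mk _), mul_comm]
    rfl
  | add P P' h h' =>
    obtain ⟨q, m, hm, e⟩ := h
    obtain ⟨q', m', hm', e'⟩ := h'
    refine ⟨algebraMap B _ m' * q + algebraMap B _ m * q', m * m', p.primeCompl.mul_mem hm hm', ?_⟩
    simp only [map_add, map_mul, AlgHom.commutes, ← e, ← e']
    ring
  | mul_X P k h =>
    obtain ⟨q, m, hm, e⟩ := h
    refine ⟨q * Ideal.Quotient.mk _ (MvPolynomial.X k), m, hm, ?_⟩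
    rw [map_mul, map_mul (toPQ c a s hs), ← e, toPQ_mk, MvPolynomial.map_X, mul_assoc]

theorem isUnit_algebraMap {m : B} (hm : m ∉ p) : IsUnit (algebraMap B (PQ (Localization.AtPrime p) s) m) := by
  rw [IsScalarTower.algebraMap_apply B (Localization.AtPrime p) (PQ (Localization.AtPrime p) s)]
  exact (IsLocalization.map_units (Localization.AtPrime p) (⟨m, hm⟩ : p.primeCompl)).map _

/-- The square-root algebra over `Bₚ` maps to a localization of the model at a submonoid containing `B ∖ p`. -/
theorem exists_lift (S : Submonoid (Q0 c a)) (hS : ∀ m, m ∉ p → algebraMap B (Q0 c a) m ∈ S) (hc : c ∉ p) :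
    ∃ ψ : PQ (Localization.AtPrime p) s →ₐ[B] Localization S,
      ∀ q, ψ (toPQ c a s hs q) = algebraMap (Q0 c a) (Localization S) q := by
  have hu : ∀ m : p.primeCompl, IsUnit (algebraMap B (Localization S) m.1) := fun m => by
    rw [IsScalarTower.algebraMap_apply B (Q0 c a) (Localization S)]
    exact IsLocalization.map_units (Localization S) (⟨_, hS m.1 m.2⟩ : S)
  let φ : Localization.AtPrime p →+* Localization S :=
    IsLocalization.lift (M := p.primeCompl) (S := Localization.AtPrime p) (P := Localization S) (g := algebraMap B (Localization S)) hu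
  have hφ : ∀ b, φ (algebraMap B _ b) = algebraMap B (Localization S) b := fun b => IsLocalization.lift_eq _ _
  let e : MvPolynomial (Fin l) (Localization.AtPrime p) →+* Localization S :=
    eval₂Hom φ
      (fun k => algebraMap (Q0 c a) (Localization S) (Ideal.Quotient.mk _ (MvPolynomial.X k)))
  have hker : Ideal.span (Set.range fun k : Fin l => MvPolynomial.X k ^ 2 - MvPolynomial.C (s k)) ≤ RingHom.ker e := by
    refine Ideal.span_le.2 ?_
    rintro _ ⟨k, rfl⟩
    simp only [SetLike.mem_coe, RingHom.mem_ker, e, map_sub, map_pow, eval₂Hom_X', eval₂Hom_C, RingHom.coe_coe]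
    have h1 : IsUnit (algebraMap B (Localization S) c) := by
      rw [IsScalarTower.algebraMap_apply B (Q0 c a) (Localization S)]
      exact IsLocalization.map_units (Localization S) (⟨_, hS c hc⟩ : S)
    refine h1.mul_right_eq_zero.1 ?_
    rw [mul_sub, ← hφ c, ← map_mul φ, hs, hφ, hφ, IsScalarTower.algebraMap_apply B (Q0 c a) (Localization S),
      IsScalarTower.algebraMap_apply B (Q0 c a) (Localization S), ← map_pow, ← map_mul, ← map_sub]
    refine (congrArg _ ?_).trans (map_zero _)
    exact (Ideal.Quotient.eq_zero_iff_mem (a := MvPolynomial.C c * MvPolynomial.X k ^ 2 - MvPolynomial.C (a k))).2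
      (Ideal.subset_span ⟨k, rfl⟩)
  let ψ₀ : PQ (Localization.AtPrime p) s →+* Localization S := Ideal.Quotient.lift _ e fun x hx => hker hx
  refine ⟨{ ψ₀ with commutes' := fun b => ?_ }, fun q => ?_⟩
  · show e (MvPolynomial.C (algebraMap B (Localization.AtPrime p) b)) = _
    simp [e, hφ]
  · obtain ⟨P, rfl⟩ := Ideal.Quotient.mk_surjective q
    show ψ₀ (Ideal.Quotient.mk _ (MvPolynomial.map (algebraMap B (Localization.AtPrime p)) P)) = _
    show e (MvPolynomial.map (algebraMap B (Localization.AtPrime p)) P) = _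
    refine RingHom.congr_fun (f := e.comp (MvPolynomial.map (algebraMap B (Localization.AtPrime p))))
      (g := (algebraMap (Q0 c a) (Localization S)).comp (Ideal.Quotient.mk _)) ?_ P
    refine MvPolynomial.ringHom_ext (fun b => ?_) (fun k => ?_)
    · simp only [RingHom.comp_apply, map_C, e, eval₂Hom_C, RingHom.coe_coe, hφ]
      rfl
    · simp [e]

end Groth.Agent.RInvLib
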