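import Groth.Agent.RInvLib.Spread
import Groth.Agent.RInvLib.Descend

/-!
# Spreading out congruence data from a prime to a basic open
-/

set_option autoImplicit false
set_option linter.style.haveILetI false
set_option synthInstance.maxHeartbeats 400000
set_option maxHeartbeats 1600000

universe u v

open scoped TensorProduct

noncomputable section

namespace Groth.Agent.RInvLib

variable {B : Type u} [CommRing B] {A : Type v} [CommRing A] [Algebra B A]

/-- The involution on a base change. -/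
def lamTens (Q : Type u) [CommRing Q] [Algebra B Q] (lam : A ≃ₐ[B] A) : Q ⊗[B] A →+* Q ⊗[B] A :=
  (Algebra.TensorProduct.congr (AlgEquiv.refl : Q ≃ₐ[Q] Q) lam).toAlgHom.toRingHom

theorem lamTens_tmul (Q : Type u) [CommRing Q] [Algebra B Q] (lam : A ≃ₐ[B] A) (q : Q) (t : A) :
    lamTens Q lam (q ⊗ₜ t) = q ⊗ₜ lam t := rfl

theorem lamTens_natural {Q C : Type u} [CommRing Q] [Algebra B Q] [CommRing C] [Algebra B C] (χ : Q →ₐ[B] C)
    (lam : A ≃ₐ[B] A) (x : Q ⊗[B] A) :
    Algebra.TensorProduct.map χ (AlgHom.id B A) (lamTens Q lam x) =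
      lamTens C lam (Algebra.TensorProduct.map χ (AlgHom.id B A) x) := by
  induction x using TensorProduct.induction_on with
  | zero => simp
  | tmul q t => rfl
  | add y y' h h' => simp only [map_add, h, h']

theorem includeRight_map {Q C : Type u} [CommRing Q] [Algebra B Q] [CommRing C] [Algebra B C] (χ : Q →ₐ[B] C)
    {n : ℕ} (h : Matrix (Fin n) (Fin n) A) :
    (h.map (Algebra.TensorProduct.includeRight : A →ₐ[B] Q ⊗[B] A)).map
        (Algebra.TensorProduct.map χ (AlgHom.id B A)).toRingHom =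
      h.map (Algebra.TensorProduct.includeRight : A →ₐ[B] C ⊗[B] A) := by
  ext i j
  simp

/-- What the congruence data say about one member of the covering. -/
theorem exists_descended_member {Q P : Type u} [CommRing Q] [Algebra B Q] [CommRing P] [Algebra B P]
    (π : Q →ₐ[B] P) (p : Ideal B) [p.IsPrime]
    (hrepr : ∀ x : P, ∃ (q : Q) (m : B), m ∉ p ∧ algebraMap B P m * x = π q)
    (hunit : ∀ m, m ∉ p → IsUnit (algebraMap B P m))
    (hlift : ∀ S : Submonoid Q, (∀ m, m ∉ p → algebraMap B Q m ∈ S) →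
      ∃ ψ : P →ₐ[B] Localization S, ∀ q, ψ (π q) = algebraMap Q (Localization S) q)
    (lam : A ≃ₐ[B] A) {n : ℕ} (h h' : Matrix (Fin n) (Fin n) A) (f : P)
    (F : Q) (m₁ : B) (hm₁ : m₁ ∉ p) (hF : algebraMap B P m₁ * f = π F)
    (hdata : ∀ (C : Type u) [CommRing C] [Algebra B C] [Algebra P C]
      [IsScalarTower B P C] [IsLocalization.Away f C],
      ∃ v : Matrix (Fin n) (Fin n) (C ⊗[B] A), IsUnit v ∧
        (v.map (Algebra.TensorProduct.congr (AlgEquiv.refl : C ≃ₐ[C] C) lam)).transpose *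
            h.map (Algebra.TensorProduct.includeRight : A →ₐ[B] C ⊗[B] A) * v =
          h'.map (Algebra.TensorProduct.includeRight : A →ₐ[B] C ⊗[B] A)) :
    ∃ m : B, m ∉ p ∧ ∀ (C : Type u) [CommRing C] [Algebra B C] (χ : Q →ₐ[B] C),
      IsUnit (algebraMap B C m) → IsUnit (χ F) →
        ∃ v : Matrix (Fin n) (Fin n) (C ⊗[B] A), IsUnit v ∧
          (v.map (Algebra.TensorProduct.congr (AlgEquiv.refl : C ≃ₐ[C] C) lam)).transpose *
              h.map (Algebra.TensorProduct.includeRight : A →ₐ[B] C ⊗[B] A) * v =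
            h'.map (Algebra.TensorProduct.includeRight : A →ₐ[B] C ⊗[B] A) := by
  let S : Submonoid (Q) := p.primeCompl.map (algebraMap B (Q) : B →* Q) ⊔ Submonoid.powers F
  have hSmem : ∀ σ ∈ S, ∃ m, m ∉ p ∧ ∃ N : ℕ, algebraMap B (Q) m * F ^ N = σ := by
    intro σ hσ
    obtain ⟨y, ⟨m, hm, rfl⟩, z, ⟨N, rfl⟩, rfl⟩ := Submonoid.mem_sup.1 hσ
    exact ⟨m, hm, N, rfl⟩
  have hS : ∀ m, m ∉ p → algebraMap B (Q) m ∈ S := fun m hm =>
    Submonoid.mem_sup_left ⟨m, hm, rfl⟩
  obtain ⟨ψ, hψ⟩ := hlift S hS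
  letI : Algebra P (Localization S) := RingHom.toAlgebra (S := Localization S) ψ.toRingHom
  haveI : IsScalarTower B P (Localization S) :=
    IsScalarTower.of_algebraMap_eq (R := B) (S := P) (A := Localization S)
      fun b => (ψ.commutes b).symm
  have hψf : IsUnit (ψ f) := by
    have e : ψ (algebraMap B _ m₁ * f) = algebraMap (Q) (Localization S) F := by rw [hF, hψ]
    rw [map_mul] at e
    exact isUnit_of_mul_isUnit_right (e ▸ IsLocalization.map_units (Localization S)
      (⟨F, Submonoid.mem_sup_right (Submonoid.mem_powers F)⟩ : S))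
  have hrep : ∀ σ ∈ S, ∃ (u : Pˣ) (N : ℕ), π σ = u * f ^ N := by
    intro σ hσ
    obtain ⟨m, hm, N, rfl⟩ := hSmem σ hσ
    obtain ⟨u₀, hu₀⟩ := hunit _ hm
    obtain ⟨u₁, hu₁⟩ := hunit _ hm₁
    refine ⟨u₀ * u₁ ^ N, N, ?_⟩
    rw [map_mul, map_pow, AlgHom.commutes, ← hF, mul_pow, Units.val_mul, Units.val_pow_eq_pow_val, hu₀, hu₁, mul_assoc]
  haveI : IsLocalization.Away f (Localization S) := by
    refine ⟨?_, ?_, ?_⟩
    · rintro ⟨_, N, rfl⟩
      rw [map_pow]
      exact hψf.pow N
    · intro z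
      obtain ⟨⟨q, σ⟩, hq⟩ := IsLocalization.surj S z
      obtain ⟨u, N, hu⟩ := hrep σ.1 σ.2
      refine ⟨(π q * (u⁻¹ : Pˣ), ⟨f ^ N, N, rfl⟩), ?_⟩
      refine (u.isUnit.map ψ).mul_left_cancel ?_
      show ψ u * (z * ψ (f ^ N)) = ψ u * ψ (π q * _)
      rw [mul_left_comm, ← map_mul ψ, ← hu, hψ, hq, ← map_mul ψ, mul_left_comm, Units.mul_inv, mul_one, hψ]
    · intro x y hxy
      obtain ⟨q, m, hm, hq⟩ := hrepr (x - y)
      have h0 : algebraMap (Q) (Localization S) q = 0 := by
        rw [← hψ, ← hq, map_mul, map_sub]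
        exact mul_eq_zero_of_right _ (sub_eq_zero.2 hxy)
      obtain ⟨σ, hσ⟩ := (IsLocalization.map_eq_zero_iff S (Localization S) q).1 h0
      obtain ⟨u, N, hu⟩ := hrep σ.1 σ.2
      refine ⟨⟨f ^ N, N, rfl⟩, sub_eq_zero.1 ?_⟩
      have e := congrArg (π) hσ
      rw [map_mul, hu, ← hq, map_zero, mul_assoc] at e
      have e2 := u.mul_right_eq_zero.1 e
      rw [mul_left_comm] at e2
      rw [← mul_sub]
      exact (hunit _ hm).mul_right_eq_zero.1 e2
  obtain ⟨v, hv, hrel⟩ := hdata (Localization S)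
  let θ := (Algebra.TensorProduct.map (IsScalarTower.toAlgHom B (Q) (Localization S)) (AlgHom.id B A)).toRingHom
  let ST : Submonoid (Q ⊗[B] A) := S.map (Algebra.TensorProduct.includeLeftRingHom : Q →+* Q ⊗[B] A)
  have hrel' : (v.map (lamTens (Localization S) lam)).transpose *
      (h.map (Algebra.TensorProduct.includeRight : A →ₐ[B] Q ⊗[B] A)).map θ * v =
        (h'.map (Algebra.TensorProduct.includeRight : A →ₐ[B] Q ⊗[B] A)).map θ := by
    simp only [θ, includeRight_map]
    exact hrel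
  obtain ⟨E, ⟨σ, hσ, rfl⟩, t, ⟨τ, hτ, rfl⟩, V, W, h1, h2, h3⟩ := exists_descended θ ST (lamTens (Q) lam)
    (lamTens (Localization S) lam) (fun x => lamTens_natural _ lam x)
    (by rintro _ ⟨σ, -, rfl⟩; exact (lamTens_tmul _ lam σ 1).trans (by rw [map_one]; rfl))
    (fun w => by
      obtain ⟨x, σ, e⟩ := exists_num (A := A) S w
      exact ⟨x, _, ⟨σ.1, σ.2, rfl⟩, e⟩)
    (fun x hx => by
      obtain ⟨σ, e⟩ := exists_kill (A := A) S x hx
      exact ⟨_, ⟨σ.1, σ.2, rfl⟩, e⟩)
    (h.map (Algebra.TensorProduct.includeRight : A →ₐ[B] Q ⊗[B] A))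
    (h'.map (Algebra.TensorProduct.includeRight : A →ₐ[B] Q ⊗[B] A)) hv hrel'
  obtain ⟨m₂, hm₂, N₂, e₂⟩ := hSmem σ hσ
  obtain ⟨m₃, hm₃, N₃, e₃⟩ := hSmem τ hτ
  refine ⟨m₂ * m₃, p.primeCompl.mul_mem hm₂ hm₃, fun C _ _ χ hm hFu => ?_⟩
  let θC := (Algebra.TensorProduct.map χ (AlgHom.id B A)).toRingHom
  have hu : ∀ m N, IsUnit (algebraMap B C m) →
      IsUnit (θC ((algebraMap B (Q) m * F ^ N) ⊗ₜ[B] (1 : A))) := by
    intro m N hmu
    show IsUnit ((χ (algebraMap B (Q) m * F ^ N)) ⊗ₜ[B] (1 : A))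
    rw [map_mul, map_pow, AlgHom.commutes]
    exact ((hmu.mul (hFu.pow N)).map (Algebra.TensorProduct.includeLeftRingHom : C →+* C ⊗[B] A))
  rw [map_mul] at hm
  obtain ⟨v', hv', hrel''⟩ := exists_of_descended θC (lamTens (Q) lam) (lamTens C lam)
    (fun x => lamTens_natural χ lam x) ((lamTens_tmul _ lam σ 1).trans (by rw [map_one]
      <;> rfl))
    (e₂ ▸ hu m₂ N₂ (isUnit_of_mul_isUnit_left hm)) (e₃ ▸ hu m₃ N₃ (isUnit_of_mul_isUnit_right hm))
    _ _ V W h1 h2 h3
  simp only [θC, includeRight_map] at hrel''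
  exact ⟨v', hv', hrel''⟩

/-- The congruence data spread out from a prime to a basic open around it. -/
theorem exists_data_away (p : Ideal B) [p.IsPrime] (lam : A ≃ₐ[B] A) {n : ℕ} (h h' : Matrix (Fin n) (Fin n) A)
    {l r : ℕ} (s : Fin l → (Localization.AtPrime p)ˣ)
    (f : Fin r → PQ (Localization.AtPrime p) fun k => (s k : Localization.AtPrime p))
    (hf : Ideal.span (Set.range f) = ⊤)
    (hdata : ∀ (i : Fin r) (C : Type u) [CommRing C] [Algebra B C]
      [Algebra (PQ (Localization.AtPrime p) fun k => (s k : Localization.AtPrime p)) C]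
      [IsScalarTower B (PQ (Localization.AtPrime p) fun k => (s k : Localization.AtPrime p)) C]
      [IsLocalization.Away (f i) C],
      ∃ v : Matrix (Fin n) (Fin n) (C ⊗[B] A), IsUnit v ∧
        (v.map (Algebra.TensorProduct.congr (AlgEquiv.refl : C ≃ₐ[C] C) lam)).transpose *
            h.map (Algebra.TensorProduct.includeRight : A →ₐ[B] C ⊗[B] A) * v =
          h'.map (Algebra.TensorProduct.includeRight : A →ₐ[B] C ⊗[B] A)) :
    ∃ b : B, b ∉ p ∧ ∃ (s' : Fin l → (Localization.Away b)ˣ)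
      (f' : Fin r → PQ (Localization.Away b) fun k => (s' k : Localization.Away b)),
      Ideal.span (Set.range f') = ⊤ ∧
      ∀ (i : Fin r) (C : Type u) [CommRing C] [Algebra B C]
        [Algebra (PQ (Localization.Away b) fun k => (s' k : Localization.Away b)) C]
        [IsScalarTower B (PQ (Localization.Away b) fun k => (s' k : Localization.Away b)) C]
        [IsLocalization.Away (f' i) C],
        ∃ v : Matrix (Fin n) (Fin n) (C ⊗[B] A), IsUnit v ∧
          (v.map (Algebra.TensorProduct.congr (AlgEquiv.refl : C ≃ₐ[C] C) lam)).transpose *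
              h.map (Algebra.TensorProduct.includeRight : A →ₐ[B] C ⊗[B] A) * v =
            h'.map (Algebra.TensorProduct.includeRight : A →ₐ[B] C ⊗[B] A) := by
  classical
  obtain ⟨⟨c, hc⟩, hca⟩ := IsLocalization.exist_integer_multiples_of_finite p.primeCompl
    (fun k => (s k : Localization.AtPrime p))
  choose a ha using hca
  have hs : ∀ k, algebraMap B (Localization.AtPrime p) c * (s k : Localization.AtPrime p) =
      algebraMap B (Localization.AtPrime p) (a k) := fun k => by
    rw [ha k, Algebra.smul_def]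
  have hap : ∀ k, a k ∉ p := fun k => by
    have hu : IsUnit (algebraMap B (Localization.AtPrime p) (a k)) := hs k ▸
      ((IsLocalization.map_units (Localization.AtPrime p) (⟨c, hc⟩ : p.primeCompl)).mul (s k).isUnit)
    exact (IsLocalization.AtPrime.isUnit_to_map_iff (Localization.AtPrime p) p (a k)).1 hu
  choose F m₁ hm₁ hF using fun i => exists_rep c a p _ hs (f i)
  choose m₂ hm₂ hmem using fun i => exists_descended_member (toPQ c a _ hs) p
    (exists_rep c a p _ hs) (fun m hm => isUnit_algebraMap p _ hm) (fun S hS => exists_lift c a p _ hs S hS hc) lam h h' (f i) (F i) (m₁ i) (hm₁ i) (hF i)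
    (hdata i)
  -- the covering, spread out
  obtain ⟨g, hg⟩ := (Ideal.mem_span_range_iff_exists_fun (R := PQ (Localization.AtPrime p) _)).1
    ((Ideal.eq_top_iff_one _).1 hf)
  choose G m₃ hm₃ hG using fun i => exists_rep c a p _ hs (g i)
  let M : B := ∏ i, m₁ i * m₃ i
  have hM : M ∉ p := p.primeCompl.prod_mem fun i _ => p.primeCompl.mul_mem (hm₁ i) (hm₃ i)
  choose k hk using fun i => Finset.dvd_prod_of_mem (fun i => m₁ i * m₃ i) (Finset.mem_univ i)
  let D : Q0 c a := (∑ i, algebraMap B _ (k i) * G i * F i) - algebraMap B _ M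
  have hD : toPQ c a _ hs D = 0 := by
    simp only [D, map_sub, map_sum, map_mul, AlgHom.commutes, sub_eq_zero]
    calc ∑ i, algebraMap B _ (k i) * toPQ c a _ hs (G i) * toPQ c a _ hs (F i)
        = ∑ i, algebraMap B _ M * (g i * f i) := Finset.sum_congr rfl fun i _ => by
          rw [← hG i, ← hF i, show M = m₁ i * m₃ i * k i from hk i, map_mul, map_mul]
          ring
      _ = algebraMap B _ M := by rw [← Finset.mul_sum, hg, mul_one]
  obtain ⟨ψ₀, hψ₀⟩ := exists_lift c a p _ hs (p.primeCompl.map (algebraMap B (Q0 c a) : B →* Q0 c a))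
    (fun m hm => ⟨m, hm, rfl⟩) hc
  obtain ⟨⟨_, m₀, hm₀, rfl⟩, hm₀D⟩ := (IsLocalization.map_eq_zero_iff
    (p.primeCompl.map (algebraMap B (Q0 c a) : B →* Q0 c a)) (Localization (p.primeCompl.map (algebraMap B (Q0 c a) : B →* Q0 c a))) D).1 (by rw [← hψ₀, hD, map_zero])
  let L : List B := [c, ∏ j, a j, M, m₀, ∏ i, m₂ i]
  let b : B := L.prod
  have hb : b ∉ p := by
    have h2 : ∏ i, m₂ i ∈ p.primeCompl := p.primeCompl.prod_mem fun i _ => hm₂ i
    have ha' : ∏ j, a j ∈ p.primeCompl := p.primeCompl.prod_mem fun j _ => hap j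
    refine p.primeCompl.list_prod_mem fun x hx => ?_
    simp only [L, List.mem_cons, List.not_mem_nil, or_false] at hx
    rcases hx with rfl | rfl | rfl | rfl | rfl
    exacts [hc, ha', hM, hm₀, h2]
  have hdvd : ∀ x, x ∣ b → IsUnit (algebraMap B (Localization.Away b) x) := fun x hx =>
    isUnit_of_dvd_unit (map_dvd _ hx) (IsLocalization.Away.algebraMap_isUnit b)
  have hcu := hdvd c (List.dvd_prod (by simp [L]))
  have hau : ∀ j, IsUnit (algebraMap B (Localization.Away b) (a j)) := fun j =>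
    hdvd _ ((Finset.dvd_prod_of_mem a (Finset.mem_univ j)).trans (List.dvd_prod (by simp [L])))
  let s' : Fin l → (Localization.Away b)ˣ := fun j => hcu.unit⁻¹ * (hau j).unit
  have hs' : ∀ j, algebraMap B (Localization.Away b) c * (s' j : Localization.Away b) =
      algebraMap B (Localization.Away b) (a j) := fun j => by
    simp only [s', Units.val_mul, IsUnit.unit_spec, ← mul_assoc, IsUnit.mul_val_inv, one_mul]
  refine ⟨b, hb, s', fun i => toPQ c a _ hs' (F i), ?_, fun i C _ _ _ _ _ => ?_⟩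
  · have hMu : IsUnit (algebraMap B (PQ (Localization.Away b) fun k => (s' k : Localization.Away b)) (m₀ * M)) := by
      rw [IsScalarTower.algebraMap_apply B (Localization.Away b), map_mul]
      exact ((hdvd m₀ (List.dvd_prod (by simp [L]))).mul (hdvd M (List.dvd_prod (by simp [L])))).map _
    refine Ideal.eq_top_of_isUnit_mem _ ?_ hMu
    have e := congrArg (toPQ c a _ hs') hm₀D
    simp only [D, mul_sub, map_sub, map_zero, sub_eq_zero, map_mul, map_sum, MonoidHom.coe_coe, AlgHom.commutes] at e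
    rw [map_mul, ← e]
    exact Ideal.mul_mem_left _ _ (Ideal.sum_mem _ fun i _ => Ideal.mul_mem_left _ _ (Ideal.subset_span ⟨i, rfl⟩))
  · let χ : Q0 c a →ₐ[B] C := (IsScalarTower.toAlgHom B _ C).comp (toPQ c a _ hs')
    refine hmem i C χ ?_ (IsLocalization.Away.algebraMap_isUnit (toPQ c a _ hs' (F i)))
    rw [IsScalarTower.algebraMap_apply B (PQ (Localization.Away b) fun k => (s' k : Localization.Away b)) C,
      IsScalarTower.algebraMap_apply B (Localization.Away b)]
    exact (((hdvd (m₂ i) ((Finset.dvd_prod_of_mem m₂ (Finset.mem_univ i)).trans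
      (List.dvd_prod (by simp [L])))).map _).map _)

end Groth.Agent.RInvLib
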